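import Cfsg.Agent.Comp.Pres
import Cfsg.Agent.Comp.Fi24.Rels
import Cfsg.Agent.Comp.Fi24.E1K0
import Cfsg.Agent.Comp.Fi24.E1K1
import Cfsg.Agent.Comp.Fi24.E1K2
import Cfsg.Agent.Comp.Fi24.E1K3
import Cfsg.Agent.Comp.Fi24.E1K4
import Cfsg.Agent.Comp.Fi24.E1K5
import Cfsg.Agent.Comp.Fi24.E1K6
import Cfsg.Agent.Comp.Fi24.E1K7

set_option autoImplicit false
set_option maxRecDepth 1000000
set_option maxHeartbeats 0

namespace CF.Comp.Fi24

theorem e1_all : Cov e1_F 4796 13 0 := by
  have h := Cov.zero e1_F 4796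
  have h := h.blk (b := 1876) e1_k0_0 rfl
  have h := h.blk (b := 3751) e1_k0_1876 rfl
  have h := h.blk (b := 4796) e1_k0_3751 rfl
  have h := h.next (y := 1) rfl rfl
  have h := h.blk (b := 439) e1_k1_0 rfl
  have h := h.blk (b := 886) e1_k1_439 rfl
  have h := h.blk (b := 1339) e1_k1_886 rfl
  have h := h.blk (b := 1807) e1_k1_1339 rfl
  have h := h.blk (b := 2255) e1_k1_1807 rfl
  have h := h.blk (b := 2705) e1_k1_2255 rfl
  have h := h.blk (b := 3186) e1_k1_2705 rfl
  have h := h.blk (b := 3654) e1_k1_3186 rfl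
  have h := h.blk (b := 4112) e1_k1_3654 rfl
  have h := h.blk (b := 4584) e1_k1_4112 rfl
  have h := h.blk (b := 4796) e1_k1_4584 rfl
  have h := h.next (y := 2) rfl rfl
  have h := h.blk (b := 436) e1_k2_0 rfl
  have h := h.blk (b := 880) e1_k2_436 rfl
  have h := h.blk (b := 1334) e1_k2_880 rfl
  have h := h.blk (b := 1800) e1_k2_1334 rfl
  have h := h.blk (b := 2263) e1_k2_1800 rfl
  have h := h.blk (b := 2718) e1_k2_2263 rfl
  have h := h.blk (b := 3189) e1_k2_2718 rfl
  have h := h.blk (b := 3651) e1_k2_3189 rfl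
  have h := h.blk (b := 4117) e1_k2_3651 rfl
  have h := h.blk (b := 4592) e1_k2_4117 rfl
  have h := h.blk (b := 4796) e1_k2_4592 rfl
  have h := h.next (y := 3) rfl rfl
  have h := h.blk (b := 446) e1_k3_0 rfl
  have h := h.blk (b := 896) e1_k3_446 rfl
  have h := h.blk (b := 1357) e1_k3_896 rfl
  have h := h.blk (b := 1824) e1_k3_1357 rfl
  have h := h.blk (b := 2289) e1_k3_1824 rfl
  have h := h.blk (b := 2744) e1_k3_2289 rfl
  have h := h.blk (b := 3215) e1_k3_2744 rfl
  have h := h.blk (b := 3682) e1_k3_3215 rfl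
  have h := h.blk (b := 4153) e1_k3_3682 rfl
  have h := h.blk (b := 4631) e1_k3_4153 rfl
  have h := h.blk (b := 4796) e1_k3_4631 rfl
  have h := h.next (y := 4) rfl rfl
  have h := h.blk (b := 454) e1_k4_0 rfl
  have h := h.blk (b := 909) e1_k4_454 rfl
  have h := h.blk (b := 1377) e1_k4_909 rfl
  have h := h.blk (b := 1848) e1_k4_1377 rfl
  have h := h.blk (b := 2318) e1_k4_1848 rfl
  have h := h.blk (b := 2786) e1_k4_2318 rfl
  have h := h.blk (b := 3264) e1_k4_2786 rfl
  have h := h.blk (b := 3744) e1_k4_3264 rfl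
  have h := h.blk (b := 4223) e1_k4_3744 rfl
  have h := h.blk (b := 4695) e1_k4_4223 rfl
  have h := h.blk (b := 4796) e1_k4_4695 rfl
  have h := h.next (y := 5) rfl rfl
  have h := h.blk (b := 462) e1_k5_0 rfl
  have h := h.blk (b := 940) e1_k5_462 rfl
  have h := h.blk (b := 1415) e1_k5_940 rfl
  have h := h.blk (b := 1895) e1_k5_1415 rfl
  have h := h.blk (b := 2383) e1_k5_1895 rfl
  have h := h.blk (b := 2881) e1_k5_2383 rfl
  have h := h.blk (b := 3382) e1_k5_2881 rfl
  have h := h.blk (b := 3877) e1_k5_3382 rfl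
  have h := h.blk (b := 4358) e1_k5_3877 rfl
  have h := h.blk (b := 4796) e1_k5_4358 rfl
  have h := h.next (y := 6) rfl rfl
  have h := h.blk (b := 496) e1_k6_0 rfl
  have h := h.blk (b := 1004) e1_k6_496 rfl
  have h := h.blk (b := 1508) e1_k6_1004 rfl
  have h := h.blk (b := 2022) e1_k6_1508 rfl
  have h := h.blk (b := 2551) e1_k6_2022 rfl
  have h := h.blk (b := 3084) e1_k6_2551 rfl
  have h := h.blk (b := 3620) e1_k6_3084 rfl
  have h := h.blk (b := 4134) e1_k6_3620 rfl
  have h := h.blk (b := 4621) e1_k6_4134 rfl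
  have h := h.blk (b := 4796) e1_k6_4621 rfl
  have h := h.next (y := 7) rfl rfl
  have h := h.blk (b := 492) e1_k7_0 rfl
  have h := h.blk (b := 986) e1_k7_492 rfl
  have h := h.blk (b := 1484) e1_k7_986 rfl
  have h := h.blk (b := 1986) e1_k7_1484 rfl
  have h := h.blk (b := 2492) e1_k7_1986 rfl
  have h := h.blk (b := 3012) e1_k7_2492 rfl
  have h := h.blk (b := 3549) e1_k7_3012 rfl
  have h := h.blk (b := 4076) e1_k7_3549 rfl
  have h := h.blk (b := 4584) e1_k7_4076 rfl
  have h := h.blk (b := 4796) e1_k7_4584 rfl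
  have h := h.next (y := 8) rfl rfl
  have h := h.blk (b := 496) e1_k8_0 rfl
  have h := h.blk (b := 973) e1_k8_496 rfl
  have h := h.blk (b := 1455) e1_k8_973 rfl
  have h := h.blk (b := 1938) e1_k8_1455 rfl
  have h := h.blk (b := 2412) e1_k8_1938 rfl
  have h := h.blk (b := 2898) e1_k8_2412 rfl
  have h := h.blk (b := 3395) e1_k8_2898 rfl
  have h := h.blk (b := 3888) e1_k8_3395 rfl
  have h := h.blk (b := 4394) e1_k8_3888 rfl
  have h := h.blk (b := 4796) e1_k8_4394 rfl
  have h := h.next (y := 9) rfl rfl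
  have h := h.blk (b := 489) e1_k9_0 rfl
  have h := h.blk (b := 961) e1_k9_489 rfl
  have h := h.blk (b := 1432) e1_k9_961 rfl
  have h := h.blk (b := 1903) e1_k9_1432 rfl
  have h := h.blk (b := 2364) e1_k9_1903 rfl
  have h := h.blk (b := 2838) e1_k9_2364 rfl
  have h := h.blk (b := 3312) e1_k9_2838 rfl
  have h := h.blk (b := 3778) e1_k9_3312 rfl
  have h := h.blk (b := 4266) e1_k9_3778 rfl
  have h := h.blk (b := 4750) e1_k9_4266 rfl
  have h := h.blk (b := 4796) e1_k9_4750 rfl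
  have h := h.next (y := 10) rfl rfl
  have h := h.blk (b := 467) e1_k10_0 rfl
  have h := h.blk (b := 931) e1_k10_467 rfl
  have h := h.blk (b := 1391) e1_k10_931 rfl
  have h := h.blk (b := 1851) e1_k10_1391 rfl
  have h := h.blk (b := 2312) e1_k10_1851 rfl
  have h := h.blk (b := 2785) e1_k10_2312 rfl
  have h := h.blk (b := 3246) e1_k10_2785 rfl
  have h := h.blk (b := 3713) e1_k10_3246 rfl
  have h := h.blk (b := 4187) e1_k10_3713 rfl
  have h := h.blk (b := 4658) e1_k10_4187 rfl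
  have h := h.blk (b := 4796) e1_k10_4658 rfl
  have h := h.next (y := 11) rfl rfl
  have h := h.blk (b := 546) e1_k11_0 rfl
  have h := h.blk (b := 1093) e1_k11_546 rfl
  have h := h.blk (b := 1652) e1_k11_1093 rfl
  have h := h.blk (b := 2225) e1_k11_1652 rfl
  have h := h.blk (b := 2792) e1_k11_2225 rfl
  have h := h.blk (b := 3338) e1_k11_2792 rfl
  have h := h.blk (b := 3854) e1_k11_3338 rfl
  have h := h.blk (b := 4355) e1_k11_3854 rfl
  have h := h.blk (b := 4796) e1_k11_4355 rfl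
  have h := h.next (y := 12) rfl rfl
  have h := h.blk (b := 532) e1_k12_0 rfl
  have h := h.blk (b := 1144) e1_k12_532 rfl
  have h := h.blk (b := 1742) e1_k12_1144 rfl
  have h := h.blk (b := 2312) e1_k12_1742 rfl
  have h := h.blk (b := 2862) e1_k12_2312 rfl
  have h := h.blk (b := 3379) e1_k12_2862 rfl
  have h := h.blk (b := 3872) e1_k12_3379 rfl
  have h := h.blk (b := 4363) e1_k12_3872 rfl
  have h := h.blk (b := 4796) e1_k12_4363 rfl
  have h := h.next (y := 13) rfl rfl
  exact h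

theorem e1 : Enum (lapp X rels) H1 (gensW 12) 306936 :=
  ⟨e1_cols, e1_ch, e1_L, e1_H, e1_pb.1, e1_e.get, [(nat_lit 0), (nat_lit 1), (nat_lit 3), (nat_lit 5), (nat_lit 7), (nat_lit 9), (nat_lit 11), (nat_lit 13), (nat_lit 15), (nat_lit 17), (nat_lit 19), (nat_lit 21), (nat_lit 23)], (nat_lit 4095), (nat_lit 12), e1_rots, e1_hcs,
    (nat_lit 306937), (nat_lit 13), (nat_lit 524288), (nat_lit 256), (nat_lit 134217728), (nat_lit 33554431), (nat_lit 8), (nat_lit 255), (nat_lit 35), (nat_lit 0x7ffffffff), (nat_lit 1199), (nat_lit 4796),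
    fun _ _ => rfl, fun _ => rfl, fun _ _ => rfl, by decide +kernel, e1_all.1⟩

end CF.Comp.Fi24
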