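import Cfsg.Agent.Comp.TCDefs

set_option autoImplicit false
set_option maxRecDepth 1000000
set_option maxHeartbeats 0

namespace CF.Comp.Fi24

noncomputable def e3_c0 : BT (Bx Nat) := (BT.leaf (Bx.mk (nat_lit 0x0)))
noncomputable def e3_c1 : BT (Bx Nat) := (BT.leaf (Bx.mk (nat_lit 0x50bf85087750bf624875282ee282ed282ec54bf1549705496f2cbf42c8732c9722096b302e2302e1302e05896758ae658ae558ae458ae334bea3496934ae81cadf382d3382d2382d15cadb5cdda5cad95cdd85cdd75cdd65cdd518dd43c95e3cadd3c6dc402c2402c1402c06074d60acc60dcb6084a60dc96094860dc76094660bc560dc460943446d044acf4474e482b4482b3482b26483c64dbb6493a64db964bb864db764bb664ab54c73f4cabe4c83d502a8502a76892f68dae68bad68dac68bab68aaa6882954831549305829f5829e6cba46cda36cba26caa16c9205c9265cba5602976029670b9b70a9a709197071864b9d64d9c682916829074913748126cb956ca947028c7880e7868d7490f782897c70a7c80b80286826078470888684842858c282900839018100000)))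
noncomputable def e3_c2 : BT (Bx Nat) := (BT.leaf (Bx.mk (nat_lit 0x302743027350d768026c34d78348f7388f23826a3826954a6f58d6e588ed84a7588ce03cd713ca7034a684025e4025d58ce558ce458ce35cd625ca618426b8c25144a6744ce630cdc4824f4824e5ccd95d0585d0575d0565d0558c24260a5360cd2900df2d0504ccdb4c7da5023f5023e5023d608ca6104960a486104760a4660d456104460a43900d464cc165040547cd54ccc548cb582315823064a3a6503964d386503764d3664cb5687b468cb3690325c8bc5ca3b602266022568d2d6902c68d2b68caa688a96c8a86d02764a2f64d2e6821d6821c6cd226cca16ca2070a1f7101e6cd246d023702157021470a197079874d177501674d1b74c9a7820f7489278d1178c907ca138020b7a18d7ca0c8488e88788808898420a8c20584786900878a1848a1038c2019008200000)))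
noncomputable def e3_c3 : BT (Bx Nat) := (BT.leaf (Bx.mk (nat_lit 0x249f820ff74037154c752c9ed3836e8036944ff620ff0483673c9f3283748036158f6b54fea84c7288f5d4cc6f1cc665035b54f6454f635cfe284c6c88f525d25f58c5e843688c34e54f6518f5a5834c5834b592575925659255665d460c53843608c3408c33f5cf4f900dc1524d5cf595c9d86033c6033b5cc485d2475cc465cfc55d2445cc438c33464f41900d1900d060f3e6123d649ca64c496832f6832e60fb86123760fb660f35900c268f3369232649b1652306cc3a6cfb9703247032364fab64f2a649a96c9a86d22768c266922574fad7522c7831b7831a68c2070c1f7121e6cf9d6d21c7cfa27cf21803136e21874f977521670f9570f1484c198898e78f9178f1074c0f843128c30a7cc0c7898b9008d809897e28886587862068c3038c30290085900849018100000)))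
noncomputable def e3_c4 : BT (Bx Nat) := (BT.leaf (Bx.mk (nat_lit 0x783f121777226f654ef5783ea259f330ef27d1f8803e71d1ef783e26636d5ceec5916b7d1f4803de3516884ef08915b18ee5603d9511637d1ee803d3611605d45f84ee98914f3945c843e68c3cb6516415158683c955456554556575484ee189141654513d9d0843dd8c3bd8c3bc5914c900da1144a6ced7703ba703b958ec6591c55944458ec36a6c2843d28c3b28c3b15d13e900ce900cd5d43b74ec8751c7783ad783ac5d1b65d1358c3a869133900c0900bf6143060eaf6142e7d1b87d437803a2803a162329900b46d42764ea665425651a465423851ab8512a88e9970e9f7141e6919d6941c6919b6911a843a08c39275197754166d1956d1146ce9390098791917911070e8f7170e8268d7ce8c7598b8c387823098c3859008a8c384900889008685983897029018100000)))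
noncomputable def e3_c5 : BT (Bx Nat) := (BT.leaf (Bx.mk (nat_lit 0x2d7f58c470293f6284782c46c8c46942b6e2d3f1900f72daef3c4728c46132af45936b313ea900f339368317e73936689359167644d363653e2900ed613605d55f35a5e3d35d3d55c8934c3d55a844658c449113577844751555657d46a3d3653526555141ad08933e4154e417cd8445b8c43b8c43a900d80d5487d3d6563c68043880437563c369ac2893336954045a3f8444f8c4308c42f900cb900ca59539853c585544893ab8932a6e734844418c4278c426900bd900bc5d52e5d3ad5d52c84436844358c4208c41f900b2900b161525613a461523613a261321900a9900a87151e6539d6551c6539b6531a65a997e71875397755166939569314697938c40d79391793106da0f8c40a900927e38c8c4089008e8c4069008b7d7879008981a8585a8485a03897829018100000)))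
noncomputable def e3_c6 : BT (Bx Nat) := (BT.leaf (Bx.mk (nat_lit 0x25ef82187725bf68c4eb29ef425b738c4e8298718c4e68c4e561eee627ed8c4e0900f52db6a8c4dd900f28c4db900f0900ef39ee44a463664e28c4d2900ec5d65f8c4cf900e94165c900e74165a3dbd9416588c4c70e7d689644658548c4c1900e16565145bd0900de4564e45ecd4184c4564b45bca8c4b98c4b8900d78c4b609645844d58c4b569bc2900d36964049ebf45b3e4963d4983c8c4ae8c4ad900c9900c855637900c6900c36deb46e4336d6324db318c4a58c4a4900bb900ba5962c59eab59eaa7a7a9727a88c49e8c49d900b0900af5d6235dba25dba18c4988c497900a7900a66161c6181b6181a8c492900a09009f7561665b1565b148c48e900997a4917a4108c48b9009375b8d8c4899008f79e8a9008c7de887d80781e8681b8585b8485b03898029018100000)))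
noncomputable def e3_c7 : BT (Bx Nat) := (BT.leaf (Bx.mk (nat_lit 0x28b782a07728b765d8f52cb742e0732dcf22cb712df702dcef60b6e6206d61cec8c55f30b6a31f698c55c318e78c55a8c5588c5578c55564b6265f618c551900eb35c5e8c54e900e88c54b900e68c549900e5900e448b56900e3658d46a9d38c540900e049cd08c53d900dd49f4d8c53b900db4a04a900d949f484cb47069c688b364e044769c369cc28c532900d24df3f8c530900cf4e03c900cc4dcba50b3988b2b51f37845458c5296df348c527900c152031900be518af54b2e88b2255cac845388c520900b572028900b355c2658b2588b1b598a38452d8c519900aa7699f70b1e88b155dc1c845248c513900a16df1888b11765168451d8c50f9009a72012845178c50c900947600e75c8d900907a00b79f0a7e0097df087d88781f0681c8585c8485c03898829018100000)))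
noncomputable def e3_c8 : BT (Bx Nat) := (BT.leaf (Bx.mk (nat_lit 0x30e78312f730e765d0f534e74352f3350f234e71350f0350ef60e6e612ed610ec616eb38e6a390e9395e8390e7394e6392e5394e472a6364e62650e1655e0606543d0de3d4dd686503d2db7064d3d5d97864a8064888e458c643656df690d3694d2686426d5dc412cf7063f754da416cc7863c7d2d88063a850d788e385d0c6846568c635900d56d5d16d2c170634754ce45d3e786317d2cb8062f850c988e2d846478c62a60e36900c4754c072a33786287d2bd80626850bb88e24846398c62164e2b900b7652a97d2b28061f850b088e1d8462e8c61a68e22900ac690a0850a788e17846258c6146ce1b900a36d0996d4988461e8c61070e159009c710937129274e11900967508f7528e7558d7908c7928b7948a7d2897d4887d68781486815858558485d03896829018100000)))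
noncomputable def e3_c9 : BT (Bx Nat) := (BT.leaf (Bx.mk (nat_lit 0x8c5f0245f58c5ef2a0f78c5e92e0ec385ed8c5e7900f8900f68c5e13e0f2285f35a96b8c5de900f442968900f1429664296542964069638c5d3900ee629605e8df900ea4695d468dc4695b468da46959468d8468d78c5c40a85565954900e266952668d149e504a94f4a8ce49fcd4a94c4a8cb4a0ca4a8c949fc88c5b7768468c5b5900d6068c369e426a9416a8c04dfbf4e93e4e8bd4e0bc4e8bb4de3a8c5ac8c5aa900c78c5a9900c56dfb46e9336e8b2520b1528b05192f8c5a38c5a1900b98c5a0900b8900b6720a8728a755da68c59c8c59a900ae8c599900ad900ab7681f8c5968c594900a58c593900a4900a26df988c5909009e8c58f9009d9009b720928c58c90097900957608e75e0d900917a08b79f8a7e0897df887d90781f8681e0585e0485d83899029018100000)))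
noncomputable def e3_p : BT (Bx Nat) := (BT.leaf (Bx.mk (nat_lit 0x21c09870161bc97eb19fa497e915fa067e725f9867e519d84976115d80675f1dd78975d19d70775b19d6877581dd5c77551db4c96d219b4476d109b3c66ce1db3836cb1db2c46c91db2456c719b1096c32190826411990076400d8fc363d1d8f4463c118ec763b158e85639198e06637258d86635258d48635196d035b21d6c845b1116c075b0156bc55ae196b465ac256a895aa216a495a91d4a045271d49c55261549465241948c95212548485202548075201527c549e19274649c25268949a2126494991d26064171905894142505084132504c741219048439024e40838f24e3c738e18e34530c24c30730b18c28530a0ca24628814a1c42061481442050861041830c4083102042042000000000)))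
noncomputable def e3_e0 : BT Nat := (BT.node (nat_lit 70) (BT.node (nat_lit 68) (BT.node (nat_lit 67) (BT.leaf (nat_lit 2)) (BT.leaf (nat_lit 262146))) (BT.node (nat_lit 69) (BT.leaf (nat_lit 524290)) (BT.leaf (nat_lit 786434)))) (BT.node (nat_lit 72) (BT.node (nat_lit 71) (BT.leaf (nat_lit 1048578)) (BT.leaf (nat_lit 1310722))) (BT.node (nat_lit 73) (BT.leaf (nat_lit 1572866)) (BT.leaf (nat_lit 1835010)))))
noncomputable def e3_e : BT Nat := e3_e0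
noncomputable def e3_cols : List (BT (Bx Nat)) := [e3_c0, e3_c1, e3_c2, e3_c3, e3_c4, e3_c5, e3_c6, e3_c7, e3_c8, e3_c9]
noncomputable def e3_ch (x j : Nat) : Bx Nat := chunkG e3_cols (nat_lit 1) x j
noncomputable def e3_L (x : Nat) : Bx (Nat → Nat) := lookG e3_ch (nat_lit 8) (nat_lit 255) (nat_lit 20) (nat_lit 1048575) x
noncomputable def e3_pc (_ j : Nat) : Bx Nat := e3_p.get j
noncomputable def e3_pb : Bx (Nat → Nat) := lookG e3_pc (nat_lit 8) (nat_lit 255) (nat_lit 18) (nat_lit 262143) (nat_lit 0)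
noncomputable def e3_rots : BT CW := (BT.node (nat_lit 43) (BT.node (nat_lit 21) (BT.node (nat_lit 10) (BT.node (nat_lit 5) (BT.node (nat_lit 2) (BT.node (nat_lit 1) (BT.leaf ⟨[], (nat_lit 1000000), (nat_lit 0), (nat_lit 0), (nat_lit 0)⟩) (BT.leaf ⟨[], (nat_lit 1000000), (nat_lit 0), (nat_lit 0), (nat_lit 1)⟩)) (BT.node (nat_lit 3) (BT.leaf ⟨[], (nat_lit 1000000), (nat_lit 0), (nat_lit 0), (nat_lit 2)⟩) (BT.node (nat_lit 4) (BT.leaf ⟨[(nat_lit 2), (nat_lit 2)], (nat_lit 1), (nat_lit 0), (nat_lit 0), (nat_lit 3)⟩) (BT.leaf ⟨[(nat_lit 1), (nat_lit 1)], (nat_lit 0), (nat_lit 0), (nat_lit 0), (nat_lit 3)⟩)))) (BT.node (nat_lit 7) (BT.node (nat_lit 6) (BT.leaf ⟨[(nat_lit 3), (nat_lit 3)], (nat_lit 2), (nat_lit 0), (nat_lit 0), (nat_lit 3)⟩) (BT.leaf ⟨[(nat_lit 4), (nat_lit 4)], (nat_lit 3), (nat_lit 0), (nat_lit 0), (nat_lit 3)⟩)) (BT.node (nat_lit 8) (BT.leaf ⟨[(nat_lit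 5), (nat_lit 5)], (nat_lit 4), (nat_lit 0), (nat_lit 0), (nat_lit 3)⟩) (BT.node (nat_lit 9) (BT.leaf ⟨[(nat_lit 6), (nat_lit 6)], (nat_lit 5), (nat_lit 0), (nat_lit 0), (nat_lit 3)⟩) (BT.leaf ⟨[(nat_lit 7), (nat_lit 7)], (nat_lit 6), (nat_lit 0), (nat_lit 0), (nat_lit 3)⟩))))) (BT.node (nat_lit 15) (BT.node (nat_lit 12) (BT.node (nat_lit 11) (BT.leaf ⟨[(nat_lit 9), (nat_lit 9)], (nat_lit 7), (nat_lit 0), (nat_lit 0), (nat_lit 3)⟩) (BT.leaf ⟨[(nat_lit 8), (nat_lit 8)], (nat_lit 8), (nat_lit 0), (nat_lit 0), (nat_lit 3)⟩)) (BT.node (nat_lit 13) (BT.leaf ⟨[(nat_lit 1), (nat_lit 3), (nat_lit 1), (nat_lit 3)], (nat_lit 10), (nat_lit 0), (nat_lit 0), (nat_lit 3)⟩) (BT.node (nat_lit 14) (BT.leaf ⟨[(nat_lit 1), (nat_lit 4), (nat_lit 1), (nat_lit 4)], (nat_lit 11), (nat_lit 0), (nat_lit 0), (nat_lit 3)⟩) (BT.leaf ⟨[(nat_lit 2), (nat_lit 4), (nat_lit 2), (nat_lit 4)], (nat_lit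 18), (nat_lit 0), (nat_lit 0), (nat_lit 3)⟩)))) (BT.node (nat_lit 18) (BT.node (nat_lit 16) (BT.leaf ⟨[(nat_lit 1), (nat_lit 5), (nat_lit 1), (nat_lit 5)], (nat_lit 12), (nat_lit 0), (nat_lit 0), (nat_lit 3)⟩) (BT.node (nat_lit 17) (BT.leaf ⟨[(nat_lit 2), (nat_lit 5), (nat_lit 2), (nat_lit 5)], (nat_lit 19), (nat_lit 0), (nat_lit 0), (nat_lit 3)⟩) (BT.leaf ⟨[(nat_lit 1), (nat_lit 6), (nat_lit 1), (nat_lit 6)], (nat_lit 13), (nat_lit 0), (nat_lit 0), (nat_lit 3)⟩))) (BT.node (nat_lit 19) (BT.leaf ⟨[(nat_lit 3), (nat_lit 5), (nat_lit 3), (nat_lit 5)], (nat_lit 25), (nat_lit 0), (nat_lit 0), (nat_lit 3)⟩) (BT.node (nat_lit 20) (BT.leaf ⟨[(nat_lit 2), (nat_lit 6), (nat_lit 2), (nat_lit 6)], (nat_lit 20), (nat_lit 0), (nat_lit 0), (nat_lit 3)⟩) (BT.leaf ⟨[(nat_lit 1), (nat_lit 7), (nat_lit 1), (nat_lit 7)], (nat_lit 14), (nat_lit 0), (nat_lit 0), (nat_lit 3)⟩)))))) (BT.node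 (nat_lit 32) (BT.node (nat_lit 26) (BT.node (nat_lit 23) (BT.node (nat_lit 22) (BT.leaf ⟨[(nat_lit 7), (nat_lit 9), (nat_lit 7), (nat_lit 9)], (nat_lit 42), (nat_lit 0), (nat_lit 0), (nat_lit 3)⟩) (BT.leaf ⟨[(nat_lit 1), (nat_lit 9), (nat_lit 1), (nat_lit 9)], (nat_lit 15), (nat_lit 0), (nat_lit 0), (nat_lit 3)⟩)) (BT.node (nat_lit 24) (BT.leaf ⟨[(nat_lit 3), (nat_lit 6), (nat_lit 3), (nat_lit 6)], (nat_lit 26), (nat_lit 0), (nat_lit 0), (nat_lit 3)⟩) (BT.node (nat_lit 25) (BT.leaf ⟨[(nat_lit 2), (nat_lit 7), (nat_lit 2), (nat_lit 7)], (nat_lit 21), (nat_lit 0), (nat_lit 0), (nat_lit 3)⟩) (BT.leaf ⟨[(nat_lit 2), (nat_lit 9), (nat_lit 2), (nat_lit 9)], (nat_lit 22), (nat_lit 0), (nat_lit 0), (nat_lit 3)⟩)))) (BT.node (nat_lit 29) (BT.node (nat_lit 27) (BT.leaf ⟨[(nat_lit 1), (nat_lit 8), (nat_lit 1), (nat_lit 8)], (nat_lit 16), (nat_lit 0), (nat_lit 0), (nat_lit 3)⟩)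 (BT.node (nat_lit 28) (BT.leaf ⟨[(nat_lit 8), (nat_lit 9), (nat_lit 8), (nat_lit 9)], (nat_lit 44), (nat_lit 1), (nat_lit 0), (nat_lit 3)⟩) (BT.leaf ⟨[(nat_lit 4), (nat_lit 6), (nat_lit 4), (nat_lit 6)], (nat_lit 31), (nat_lit 0), (nat_lit 0), (nat_lit 3)⟩))) (BT.node (nat_lit 30) (BT.leaf ⟨[(nat_lit 3), (nat_lit 7), (nat_lit 3), (nat_lit 7)], (nat_lit 27), (nat_lit 0), (nat_lit 0), (nat_lit 3)⟩) (BT.node (nat_lit 31) (BT.leaf ⟨[(nat_lit 3), (nat_lit 9), (nat_lit 3), (nat_lit 9)], (nat_lit 28), (nat_lit 0), (nat_lit 0), (nat_lit 3)⟩) (BT.leaf ⟨[(nat_lit 2), (nat_lit 8), (nat_lit 2), (nat_lit 8)], (nat_lit 23), (nat_lit 0), (nat_lit 0), (nat_lit 3)⟩))))) (BT.node (nat_lit 37) (BT.node (nat_lit 34) (BT.node (nat_lit 33) (BT.leaf ⟨[(nat_lit 8), (nat_lit 6), (nat_lit 8), (nat_lit 6)], (nat_lit 41), (nat_lit 1), (nat_lit 0), (nat_lit 3)⟩) (BT.leaf ⟨[(nat_lit 4), (nat_lit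 7), (nat_lit 4), (nat_lit 7)], (nat_lit 32), (nat_lit 0), (nat_lit 0), (nat_lit 3)⟩)) (BT.node (nat_lit 35) (BT.leaf ⟨[(nat_lit 4), (nat_lit 9), (nat_lit 4), (nat_lit 9)], (nat_lit 33), (nat_lit 0), (nat_lit 0), (nat_lit 3)⟩) (BT.node (nat_lit 36) (BT.leaf ⟨[(nat_lit 3), (nat_lit 8), (nat_lit 3), (nat_lit 8)], (nat_lit 29), (nat_lit 0), (nat_lit 0), (nat_lit 3)⟩) (BT.leaf ⟨[(nat_lit 8), (nat_lit 5), (nat_lit 8), (nat_lit 5)], (nat_lit 38), (nat_lit 1), (nat_lit 0), (nat_lit 3)⟩)))) (BT.node (nat_lit 40) (BT.node (nat_lit 38) (BT.leaf ⟨[(nat_lit 5), (nat_lit 7), (nat_lit 5), (nat_lit 7)], (nat_lit 36), (nat_lit 0), (nat_lit 0), (nat_lit 3)⟩) (BT.node (nat_lit 39) (BT.leaf ⟨[(nat_lit 5), (nat_lit 9), (nat_lit 5), (nat_lit 9)], (nat_lit 37), (nat_lit 0), (nat_lit 0), (nat_lit 3)⟩) (BT.leaf ⟨[(nat_lit 4), (nat_lit 8), (nat_lit 4), (nat_lit 8)], (nat_lit 34), (nat_lit 0),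 (nat_lit 0), (nat_lit 3)⟩))) (BT.node (nat_lit 41) (BT.leaf ⟨[(nat_lit 8), (nat_lit 4), (nat_lit 8), (nat_lit 4)], (nat_lit 34), (nat_lit 1), (nat_lit 0), (nat_lit 3)⟩) (BT.node (nat_lit 42) (BT.leaf ⟨[(nat_lit 5), (nat_lit 8), (nat_lit 5), (nat_lit 8)], (nat_lit 38), (nat_lit 0), (nat_lit 0), (nat_lit 3)⟩) (BT.leaf ⟨[(nat_lit 8), (nat_lit 3), (nat_lit 8), (nat_lit 3)], (nat_lit 29), (nat_lit 1), (nat_lit 0), (nat_lit 3)⟩))))))) (BT.node (nat_lit 64) (BT.node (nat_lit 53) (BT.node (nat_lit 48) (BT.node (nat_lit 45) (BT.node (nat_lit 44) (BT.leaf ⟨[(nat_lit 6), (nat_lit 8), (nat_lit 6), (nat_lit 8)], (nat_lit 41), (nat_lit 0), (nat_lit 0), (nat_lit 3)⟩) (BT.leaf ⟨[(nat_lit 8), (nat_lit 2), (nat_lit 8), (nat_lit 2)], (nat_lit 23), (nat_lit 1), (nat_lit 0), (nat_lit 3)⟩)) (BT.node (nat_lit 46) (BT.leaf ⟨[(nat_lit 4), (nat_lit 2), (nat_lit 4), (nat_lit 2)], (nat_lit 18),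 (nat_lit 1), (nat_lit 0), (nat_lit 3)⟩) (BT.node (nat_lit 47) (BT.leaf ⟨[(nat_lit 5), (nat_lit 2), (nat_lit 5), (nat_lit 2)], (nat_lit 19), (nat_lit 1), (nat_lit 0), (nat_lit 3)⟩) (BT.leaf ⟨[(nat_lit 6), (nat_lit 2), (nat_lit 6), (nat_lit 2)], (nat_lit 20), (nat_lit 1), (nat_lit 0), (nat_lit 3)⟩)))) (BT.node (nat_lit 50) (BT.node (nat_lit 49) (BT.leaf ⟨[(nat_lit 7), (nat_lit 2), (nat_lit 7), (nat_lit 2)], (nat_lit 21), (nat_lit 1), (nat_lit 0), (nat_lit 3)⟩) (BT.leaf ⟨[(nat_lit 9), (nat_lit 2), (nat_lit 9), (nat_lit 2)], (nat_lit 22), (nat_lit 1), (nat_lit 0), (nat_lit 3)⟩)) (BT.node (nat_lit 51) (BT.leaf ⟨[(nat_lit 4), (nat_lit 1), (nat_lit 4), (nat_lit 1)], (nat_lit 11), (nat_lit 1), (nat_lit 0), (nat_lit 3)⟩) (BT.node (nat_lit 52) (BT.leaf ⟨[(nat_lit 5), (nat_lit 1), (nat_lit 5), (nat_lit 1)], (nat_lit 12), (nat_lit 1), (nat_lit 0), (nat_lit 3)⟩) (BT.leaf ⟨[(nat_lit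 5), (nat_lit 3), (nat_lit 5), (nat_lit 3)], (nat_lit 25), (nat_lit 1), (nat_lit 0), (nat_lit 3)⟩))))) (BT.node (nat_lit 58) (BT.node (nat_lit 55) (BT.node (nat_lit 54) (BT.leaf ⟨[(nat_lit 6), (nat_lit 1), (nat_lit 6), (nat_lit 1)], (nat_lit 13), (nat_lit 1), (nat_lit 0), (nat_lit 3)⟩) (BT.leaf ⟨[(nat_lit 6), (nat_lit 3), (nat_lit 6), (nat_lit 3)], (nat_lit 26), (nat_lit 1), (nat_lit 0), (nat_lit 3)⟩)) (BT.node (nat_lit 56) (BT.leaf ⟨[(nat_lit 7), (nat_lit 1), (nat_lit 7), (nat_lit 1)], (nat_lit 14), (nat_lit 1), (nat_lit 0), (nat_lit 3)⟩) (BT.node (nat_lit 57) (BT.leaf ⟨[(nat_lit 7), (nat_lit 3), (nat_lit 7), (nat_lit 3)], (nat_lit 27), (nat_lit 1), (nat_lit 0), (nat_lit 3)⟩) (BT.leaf ⟨[(nat_lit 8), (nat_lit 1), (nat_lit 8), (nat_lit 1)], (nat_lit 16), (nat_lit 1), (nat_lit 0), (nat_lit 3)⟩)))) (BT.node (nat_lit 61) (BT.node (nat_lit 59) (BT.leaf ⟨[(nat_lit 9), (nat_lit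 1), (nat_lit 9), (nat_lit 1)], (nat_lit 15), (nat_lit 1), (nat_lit 0), (nat_lit 3)⟩) (BT.node (nat_lit 60) (BT.leaf ⟨[(nat_lit 9), (nat_lit 3), (nat_lit 9), (nat_lit 3)], (nat_lit 28), (nat_lit 1), (nat_lit 0), (nat_lit 3)⟩) (BT.leaf ⟨[(nat_lit 6), (nat_lit 4), (nat_lit 6), (nat_lit 4)], (nat_lit 31), (nat_lit 1), (nat_lit 0), (nat_lit 3)⟩))) (BT.node (nat_lit 62) (BT.leaf ⟨[(nat_lit 7), (nat_lit 4), (nat_lit 7), (nat_lit 4)], (nat_lit 32), (nat_lit 1), (nat_lit 0), (nat_lit 3)⟩) (BT.node (nat_lit 63) (BT.leaf ⟨[(nat_lit 9), (nat_lit 4), (nat_lit 9), (nat_lit 4)], (nat_lit 33), (nat_lit 1), (nat_lit 0), (nat_lit 3)⟩) (BT.leaf ⟨[(nat_lit 7), (nat_lit 5), (nat_lit 7), (nat_lit 5)], (nat_lit 36), (nat_lit 1), (nat_lit 0), (nat_lit 3)⟩)))))) (BT.node (nat_lit 75) (BT.node (nat_lit 69) (BT.node (nat_lit 66) (BT.node (nat_lit 65) (BT.leaf ⟨[(nat_lit 9), (nat_lit 5), (nat_lit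 9), (nat_lit 5)], (nat_lit 37), (nat_lit 1), (nat_lit 0), (nat_lit 3)⟩) (BT.leaf ⟨[(nat_lit 2), (nat_lit 1), (nat_lit 2), (nat_lit 1), (nat_lit 2), (nat_lit 1)], (nat_lit 9), (nat_lit 1), (nat_lit 0), (nat_lit 3)⟩)) (BT.node (nat_lit 67) (BT.leaf ⟨[(nat_lit 2), (nat_lit 3), (nat_lit 2), (nat_lit 3), (nat_lit 2), (nat_lit 3)], (nat_lit 17), (nat_lit 0), (nat_lit 0), (nat_lit 3)⟩) (BT.node (nat_lit 68) (BT.leaf ⟨[(nat_lit 3), (nat_lit 4), (nat_lit 3), (nat_lit 4), (nat_lit 3), (nat_lit 4)], (nat_lit 24), (nat_lit 0), (nat_lit 0), (nat_lit 3)⟩) (BT.leaf ⟨[(nat_lit 3), (nat_lit 1), (nat_lit 3), (nat_lit 1)], (nat_lit 10), (nat_lit 1), (nat_lit 0), (nat_lit 3)⟩)))) (BT.node (nat_lit 72) (BT.node (nat_lit 70) (BT.leaf ⟨[(nat_lit 4), (nat_lit 5), (nat_lit 4), (nat_lit 5), (nat_lit 4), (nat_lit 5)], (nat_lit 30), (nat_lit 0), (nat_lit 0), (nat_lit 3)⟩) (BT.node (nat_lit 71)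 (BT.leaf ⟨[(nat_lit 5), (nat_lit 6), (nat_lit 5), (nat_lit 6), (nat_lit 5), (nat_lit 6)], (nat_lit 35), (nat_lit 0), (nat_lit 0), (nat_lit 3)⟩) (BT.leaf ⟨[(nat_lit 6), (nat_lit 7), (nat_lit 6), (nat_lit 7), (nat_lit 6), (nat_lit 7)], (nat_lit 39), (nat_lit 0), (nat_lit 0), (nat_lit 3)⟩))) (BT.node (nat_lit 73) (BT.leaf ⟨[(nat_lit 6), (nat_lit 9), (nat_lit 6), (nat_lit 9), (nat_lit 6), (nat_lit 9)], (nat_lit 40), (nat_lit 0), (nat_lit 0), (nat_lit 3)⟩) (BT.node (nat_lit 74) (BT.leaf ⟨[(nat_lit 7), (nat_lit 8), (nat_lit 7), (nat_lit 8), (nat_lit 7), (nat_lit 8)], (nat_lit 43), (nat_lit 0), (nat_lit 0), (nat_lit 3)⟩) (BT.leaf ⟨[(nat_lit 3), (nat_lit 2), (nat_lit 3), (nat_lit 2), (nat_lit 3), (nat_lit 2)], (nat_lit 17), (nat_lit 1), (nat_lit 0), (nat_lit 3)⟩))))) (BT.node (nat_lit 80) (BT.node (nat_lit 77) (BT.node (nat_lit 76) (BT.leaf ⟨[(nat_lit 1), (nat_lit 2), (nat_lit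 1), (nat_lit 2), (nat_lit 1), (nat_lit 2)], (nat_lit 9), (nat_lit 0), (nat_lit 0), (nat_lit 3)⟩) (BT.leaf ⟨[(nat_lit 4), (nat_lit 3), (nat_lit 4), (nat_lit 3), (nat_lit 4), (nat_lit 3)], (nat_lit 24), (nat_lit 1), (nat_lit 0), (nat_lit 3)⟩)) (BT.node (nat_lit 78) (BT.leaf ⟨[(nat_lit 5), (nat_lit 4), (nat_lit 5), (nat_lit 4), (nat_lit 5), (nat_lit 4)], (nat_lit 30), (nat_lit 1), (nat_lit 0), (nat_lit 3)⟩) (BT.node (nat_lit 79) (BT.leaf ⟨[(nat_lit 6), (nat_lit 5), (nat_lit 6), (nat_lit 5), (nat_lit 6), (nat_lit 5)], (nat_lit 35), (nat_lit 1), (nat_lit 0), (nat_lit 3)⟩) (BT.leaf ⟨[(nat_lit 9), (nat_lit 6), (nat_lit 9), (nat_lit 6), (nat_lit 9), (nat_lit 6)], (nat_lit 40), (nat_lit 1), (nat_lit 0), (nat_lit 3)⟩)))) (BT.node (nat_lit 83) (BT.node (nat_lit 81) (BT.leaf ⟨[(nat_lit 9), (nat_lit 8), (nat_lit 9), (nat_lit 8)], (nat_lit 44), (nat_lit 0), (nat_lit 0), (nat_lit 3)⟩)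 (BT.node (nat_lit 82) (BT.leaf ⟨[(nat_lit 9), (nat_lit 7), (nat_lit 9), (nat_lit 7)], (nat_lit 42), (nat_lit 1), (nat_lit 0), (nat_lit 3)⟩) (BT.leaf ⟨[(nat_lit 7), (nat_lit 6), (nat_lit 7), (nat_lit 6), (nat_lit 7), (nat_lit 6)], (nat_lit 39), (nat_lit 1), (nat_lit 0), (nat_lit 3)⟩))) (BT.node (nat_lit 84) (BT.leaf ⟨[(nat_lit 8), (nat_lit 7), (nat_lit 8), (nat_lit 7), (nat_lit 8), (nat_lit 7)], (nat_lit 43), (nat_lit 1), (nat_lit 0), (nat_lit 3)⟩) (BT.node (nat_lit 85) (BT.leaf ⟨[(nat_lit 5), (nat_lit 4), (nat_lit 3), (nat_lit 9), (nat_lit 8), (nat_lit 7), (nat_lit 6), (nat_lit 5), (nat_lit 4), (nat_lit 3), (nat_lit 9), (nat_lit 8), (nat_lit 7), (nat_lit 6), (nat_lit 5), (nat_lit 4), (nat_lit 3), (nat_lit 9), (nat_lit 8), (nat_lit 7), (nat_lit 6), (nat_lit 5), (nat_lit 4), (nat_lit 3), (nat_lit 1), (nat_lit 9), (nat_lit 8), (nat_lit 7), (nat_lit 6), (nat_lit 5), (nat_lit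 4), (nat_lit 3), (nat_lit 9), (nat_lit 8), (nat_lit 7), (nat_lit 6), (nat_lit 5), (nat_lit 4), (nat_lit 3), (nat_lit 9), (nat_lit 8), (nat_lit 7), (nat_lit 6), (nat_lit 5), (nat_lit 4), (nat_lit 3), (nat_lit 9), (nat_lit 8), (nat_lit 7), (nat_lit 6), (nat_lit 5), (nat_lit 4), (nat_lit 3), (nat_lit 9), (nat_lit 8), (nat_lit 7), (nat_lit 6), (nat_lit 5), (nat_lit 4), (nat_lit 3), (nat_lit 9), (nat_lit 8), (nat_lit 7), (nat_lit 6)], (nat_lit 45), (nat_lit 40), (nat_lit 0), (nat_lit 3)⟩) (BT.leaf ⟨[(nat_lit 5), (nat_lit 4), (nat_lit 3), (nat_lit 9), (nat_lit 8), (nat_lit 7), (nat_lit 6), (nat_lit 5), (nat_lit 4), (nat_lit 3), (nat_lit 9), (nat_lit 8), (nat_lit 7), (nat_lit 6), (nat_lit 5), (nat_lit 4), (nat_lit 3), (nat_lit 9), (nat_lit 8), (nat_lit 7), (nat_lit 6), (nat_lit 5), (nat_lit 4), (nat_lit 3), (nat_lit 9), (nat_lit 8), (nat_lit 7), (nat_lit 6), (nat_lit 5), (nat_lit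 4), (nat_lit 3), (nat_lit 9), (nat_lit 8), (nat_lit 7), (nat_lit 6), (nat_lit 5), (nat_lit 4), (nat_lit 3), (nat_lit 9), (nat_lit 8), (nat_lit 7), (nat_lit 6), (nat_lit 5), (nat_lit 4), (nat_lit 3), (nat_lit 9), (nat_lit 8), (nat_lit 7), (nat_lit 6), (nat_lit 5), (nat_lit 4), (nat_lit 3), (nat_lit 9), (nat_lit 8), (nat_lit 7), (nat_lit 6), (nat_lit 5), (nat_lit 4), (nat_lit 3), (nat_lit 1), (nat_lit 9), (nat_lit 8), (nat_lit 7), (nat_lit 6)], (nat_lit 45), (nat_lit 5), (nat_lit 0), (nat_lit 3)⟩))))))))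
noncomputable def e3_hcs : List CW := [⟨[(nat_lit 1)], (nat_lit 0), (nat_lit 0), (nat_lit 0), (nat_lit 0)⟩, ⟨[(nat_lit 3)], (nat_lit 1), (nat_lit 0), (nat_lit 0), (nat_lit 0)⟩, ⟨[(nat_lit 4)], (nat_lit 2), (nat_lit 0), (nat_lit 0), (nat_lit 0)⟩, ⟨[(nat_lit 5)], (nat_lit 3), (nat_lit 0), (nat_lit 0), (nat_lit 0)⟩, ⟨[(nat_lit 6)], (nat_lit 4), (nat_lit 0), (nat_lit 0), (nat_lit 0)⟩, ⟨[(nat_lit 7)], (nat_lit 5), (nat_lit 0), (nat_lit 0), (nat_lit 0)⟩, ⟨[(nat_lit 8)], (nat_lit 6), (nat_lit 0), (nat_lit 0), (nat_lit 0)⟩, ⟨[(nat_lit 9)], (nat_lit 7), (nat_lit 0), (nat_lit 0), (nat_lit 0)⟩, ⟨[(nat_lit 1)], (nat_lit 8), (nat_lit 0), (nat_lit 0), (nat_lit 0)⟩, ⟨[(nat_lit 3)], (nat_lit 9), (nat_lit 0), (nat_lit 0), (nat_lit 0)⟩, ⟨[(nat_lit 4)], (nat_lit 10), (nat_lit 0), (nat_lit 0), (nat_lit 0)⟩, ⟨[(nat_lit 5)], (nat_lit 11), (nat_lit 0), (nat_lit 0), (nat_lit 0)⟩, ⟨[(nat_lit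 6)], (nat_lit 12), (nat_lit 0), (nat_lit 0), (nat_lit 0)⟩, ⟨[(nat_lit 7)], (nat_lit 13), (nat_lit 0), (nat_lit 0), (nat_lit 0)⟩, ⟨[(nat_lit 8)], (nat_lit 14), (nat_lit 0), (nat_lit 0), (nat_lit 0)⟩, ⟨[(nat_lit 9)], (nat_lit 15), (nat_lit 0), (nat_lit 0), (nat_lit 0)⟩]
noncomputable def e3_H (x j : Nat) : Bx (Nat → Nat → Nat) := mkH e3_L e3_pb.1 e3_e.get (lmap CW.w e3_hcs) (nat_lit 120) (nat_lit 121) (nat_lit 10) (nat_lit 128) (nat_lit 16384) (nat_lit 8191) x (e3_rots.get j)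
noncomputable def e3_F (x b : Nat) : Bool := blkOK e3_H e3_ch (nat_lit 121) (nat_lit 128) (nat_lit 128) (nat_lit 8) (nat_lit 255) (nat_lit 20) (nat_lit 1048575) x b

theorem e3_k0_0 : allFrom (e3_F (nat_lit 0)) (nat_lit 0) (nat_lit 4) = true := by decide +kernel
theorem e3_k1_0 : allFrom (e3_F (nat_lit 1)) (nat_lit 0) (nat_lit 4) = true := by decide +kernel
theorem e3_k2_0 : allFrom (e3_F (nat_lit 2)) (nat_lit 0) (nat_lit 4) = true := by decide +kernel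
theorem e3_k3_0 : allFrom (e3_F (nat_lit 3)) (nat_lit 0) (nat_lit 4) = true := by decide +kernel
theorem e3_k4_0 : allFrom (e3_F (nat_lit 4)) (nat_lit 0) (nat_lit 4) = true := by decide +kernel
theorem e3_k5_0 : allFrom (e3_F (nat_lit 5)) (nat_lit 0) (nat_lit 4) = true := by decide +kernel
theorem e3_k6_0 : allFrom (e3_F (nat_lit 6)) (nat_lit 0) (nat_lit 4) = true := by decide +kernel
theorem e3_k7_0 : allFrom (e3_F (nat_lit 7)) (nat_lit 0) (nat_lit 4) = true := by decide +kernel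
theorem e3_k8_0 : allFrom (e3_F (nat_lit 8)) (nat_lit 0) (nat_lit 4) = true := by decide +kernel
theorem e3_k9_0 : allFrom (e3_F (nat_lit 9)) (nat_lit 0) (nat_lit 4) = true := by decide +kernel

noncomputable def e4_c0 : BT (Bx Nat) := (BT.leaf (Bx.mk (nat_lit 0x0)))
noncomputable def e4_c1 : BT (Bx Nat) := (BT.leaf (Bx.mk (nat_lit 0x4135104d04133192e063b718fd8812f204b8812d292c8a3f1290c0c129304a0c12738fb0e42b38ca9012340489012148c99242548d91411d50471411b58d81641f58e7981186045da39a68f65c1147044de3d67925601108043e249289346410c9042e648e990368109a8f2ac107b8e230105c8d1b4303c84136101e01080000)))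
noncomputable def e4_c2 : BT (Bx Nat) := (BT.leaf (Bx.mk (nat_lit 0x6c34305d701713b0dc4178c05b9ac72c9ddb46eb831bf2773d1ba1c76cc85c3616489da7216dd8587616079b97806ad857646e2e019f806681b7e0c9ee018e66dc9b26e2c1a8b2668c18a325e475693256a754ab24e6c529b246cc50b323e8c4ea1b36ec4cb9b2ea74ac1d26cc08cb01eebc6d2e176142d85078044e010c0000)))
noncomputable def e4_c3 : BT (Bx Nat) := (BT.leaf (Bx.mk (nat_lit 0x2c1b209fdc8736b06be4cf479ccee7b8c06b0a670b9ed701a9819b72731d1994cd2ac9cbb46628b49ce7e6c86af619e9bc8f21a8d866f619a7997f8064d8662665ce0187806083467805da345e27168b456a714ab44e479293446c790b343e678e99936e78cb992e870ac1c26a7c8cb31f6184d860f8046e011747c2e03040000)))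
noncomputable def e4_c4 : BT (Bx Nat) := (BT.leaf (Bx.mk (nat_lit 0x61f3d87c51175387db61ee244e08db2e01dcc5f0936bf8074817b4a82c397acedea9b5a645e88b79d0866d177d0de49a18f45dc9b7852820c879761d9a3d7721e2d875f61d6e017b61d4e016f805a837578058ab74e2d928b746cd90b373e4d8e91736ed8cb972e680ac352761c6d87178048e011f2844d210f4802e03040000)))
noncomputable def e4_c5 : BT (Bx Nat) := (BT.leaf (Bx.mk (nat_lit 0x4a780a2df62308a9d62fb4d88b468b2d88af807693abf6228e01cf6225e01c50e6ad888b806e8b99d28e6e01b12e649a38f80699b9854a604a27d4e5ea29768e1ca396d689ad8856af98d884f6212e01676210e015f8056839478054b393e288e8a236ee8cbb82f6208d881f804ae01270a46ca91728c4d230f4882e03040000)))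
noncomputable def e4_c6 : BT (Bx Nat) := (BT.leaf (Bx.mk (nat_lit 0x64781acdc6976891d62b348a5cc847222ac7626a911be4aaed899ca92cd899380709c2a76261e01b54966d897b806b9a58f625be01a16aa0d89678065a2a776257e01898b1ae017eab18e0171a91671156d094a914f444e7a447444cb3b3f2252d892b2250d8927804de012eeb08c2c1f0a86caa172944d250f4902e03040000)))
noncomputable def e4_c7 : BT (Bx Nat) := (BT.leaf (Bx.mk (nat_lit 0xa538296dca576894d625b4895ccc532315c4c6b0914be456e91ab4e56c398ae42e6995a6662890b8e66aa4169682e099a9e85a2a0b76a6244a67ec2daa9886b0dcb0b62e59ec0b5ae59bc0b532559d144b2557d144322d5d8b3722d3d8b2ea50ee0146c50ce013ec54ab9526e588c161f0606c98172684d1a0f4982e03040000)))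
noncomputable def e4_c8 : BT (Bx Nat) := (BT.leaf (Bx.mk (nat_lit 0x362b11adccc2b4d8ab8eb7610adf62ace01e11070d8aa78075841b780724c1ad302ae01be50688c09d4a265419550249a88e70629c0856ae05c17d701ea2b76905ca406d8b5a64066ab58ac05da9d6d8a46cfd4d8a3f628de0157628be014f628ae014b6289e0143804ee0132eb48c2d1f0ac6cab172a04d280f49c2e03040000)))
noncomputable def e4_p : BT (Bx Nat) := (BT.leaf (Bx.mk (nat_lit 0xec48ec44ec05db88db84db45db08dac5da86ca48ca05c9c6c945c906c902b885b846b842b802b786b783a742a6c6a6c3a683a646a644960395c695c495849545850484c584858448740573c87348734762c862c76288628652485246520541c541843144310320c320821042104100000000)))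
noncomputable def e4_e0 : BT Nat := (BT.node (nat_lit 70) (BT.node (nat_lit 68) (BT.leaf (nat_lit 2)) (BT.node (nat_lit 69) (BT.leaf (nat_lit 262146)) (BT.leaf (nat_lit 524290)))) (BT.node (nat_lit 71) (BT.leaf (nat_lit 786434)) (BT.node (nat_lit 72) (BT.leaf (nat_lit 1048578)) (BT.leaf (nat_lit 1310722)))))
noncomputable def e4_e : BT Nat := e4_e0
noncomputable def e4_cols : List (BT (Bx Nat)) := [e4_c0, e4_c1, e4_c2, e4_c3, e4_c4, e4_c5, e4_c6, e4_c7, e4_c8]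
noncomputable def e4_ch (x j : Nat) : Bx Nat := chunkG e4_cols (nat_lit 1) x j
noncomputable def e4_L (x : Nat) : Bx (Nat → Nat) := lookG e4_ch (nat_lit 8) (nat_lit 255) (nat_lit 18) (nat_lit 262143) x
noncomputable def e4_pc (_ j : Nat) : Bx Nat := e4_p.get j
noncomputable def e4_pb : Bx (Nat → Nat) := lookG e4_pc (nat_lit 8) (nat_lit 255) (nat_lit 16) (nat_lit 65535) (nat_lit 0)
noncomputable def e4_rots : BT CW := (BT.node (nat_lit 34) (BT.node (nat_lit 17) (BT.node (nat_lit 8) (BT.node (nat_lit 4) (BT.node (nat_lit 2) (BT.node (nat_lit 1) (BT.leaf ⟨[], (nat_lit 1000000), (nat_lit 0), (nat_lit 0), (nat_lit 0)⟩) (BT.leaf ⟨[], (nat_lit 1000000), (nat_lit 0), (nat_lit 0), (nat_lit 1)⟩)) (BT.node (nat_lit 3) (BT.leaf ⟨[], (nat_lit 1000000), (nat_lit 0), (nat_lit 0), (nat_lit 2)⟩) (BT.leaf ⟨[(nat_lit 1), (nat_lit 1)], (nat_lit 0), (nat_lit 0), (nat_lit 0), (nat_lit 3)⟩)))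 (BT.node (nat_lit 6) (BT.node (nat_lit 5) (BT.leaf ⟨[(nat_lit 2), (nat_lit 2)], (nat_lit 1), (nat_lit 0), (nat_lit 0), (nat_lit 3)⟩) (BT.leaf ⟨[(nat_lit 3), (nat_lit 3)], (nat_lit 2), (nat_lit 0), (nat_lit 0), (nat_lit 3)⟩)) (BT.node (nat_lit 7) (BT.leaf ⟨[(nat_lit 4), (nat_lit 4)], (nat_lit 3), (nat_lit 0), (nat_lit 0), (nat_lit 3)⟩) (BT.leaf ⟨[(nat_lit 5), (nat_lit 5)], (nat_lit 4), (nat_lit 0), (nat_lit 0), (nat_lit 3)⟩)))) (BT.node (nat_lit 12) (BT.node (nat_lit 10) (BT.node (nat_lit 9) (BT.leaf ⟨[(nat_lit 6), (nat_lit 6)], (nat_lit 5), (nat_lit 0), (nat_lit 0), (nat_lit 3)⟩) (BT.leaf ⟨[(nat_lit 8), (nat_lit 8)], (nat_lit 6), (nat_lit 0), (nat_lit 0), (nat_lit 3)⟩)) (BT.node (nat_lit 11) (BT.leaf ⟨[(nat_lit 7), (nat_lit 7)], (nat_lit 7), (nat_lit 0), (nat_lit 0), (nat_lit 3)⟩) (BT.leaf ⟨[(nat_lit 1), (nat_lit 2), (nat_lit 1), (nat_lit 2)], (nat_lit 8), (nat_lit 0),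 (nat_lit 0), (nat_lit 3)⟩))) (BT.node (nat_lit 14) (BT.node (nat_lit 13) (BT.leaf ⟨[(nat_lit 1), (nat_lit 3), (nat_lit 1), (nat_lit 3)], (nat_lit 9), (nat_lit 0), (nat_lit 0), (nat_lit 3)⟩) (BT.leaf ⟨[(nat_lit 1), (nat_lit 4), (nat_lit 1), (nat_lit 4)], (nat_lit 10), (nat_lit 0), (nat_lit 0), (nat_lit 3)⟩)) (BT.node (nat_lit 15) (BT.leaf ⟨[(nat_lit 1), (nat_lit 5), (nat_lit 1), (nat_lit 5)], (nat_lit 11), (nat_lit 0), (nat_lit 0), (nat_lit 3)⟩) (BT.node (nat_lit 16) (BT.leaf ⟨[(nat_lit 1), (nat_lit 6), (nat_lit 1), (nat_lit 6)], (nat_lit 12), (nat_lit 0), (nat_lit 0), (nat_lit 3)⟩) (BT.leaf ⟨[(nat_lit 6), (nat_lit 8), (nat_lit 6), (nat_lit 8)], (nat_lit 33), (nat_lit 0), (nat_lit 0), (nat_lit 3)⟩)))))) (BT.node (nat_lit 25) (BT.node (nat_lit 21) (BT.node (nat_lit 19) (BT.node (nat_lit 18) (BT.leaf ⟨[(nat_lit 1), (nat_lit 8), (nat_lit 1), (nat_lit 8)], (nat_lit 13), (nat_lit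 0), (nat_lit 0), (nat_lit 3)⟩) (BT.leaf ⟨[(nat_lit 1), (nat_lit 7), (nat_lit 1), (nat_lit 7)], (nat_lit 14), (nat_lit 0), (nat_lit 0), (nat_lit 3)⟩)) (BT.node (nat_lit 20) (BT.leaf ⟨[(nat_lit 7), (nat_lit 8), (nat_lit 7), (nat_lit 8)], (nat_lit 35), (nat_lit 1), (nat_lit 0), (nat_lit 3)⟩) (BT.leaf ⟨[(nat_lit 7), (nat_lit 5), (nat_lit 7), (nat_lit 5)], (nat_lit 32), (nat_lit 1), (nat_lit 0), (nat_lit 3)⟩))) (BT.node (nat_lit 23) (BT.node (nat_lit 22) (BT.leaf ⟨[(nat_lit 7), (nat_lit 4), (nat_lit 7), (nat_lit 4)], (nat_lit 29), (nat_lit 1), (nat_lit 0), (nat_lit 3)⟩) (BT.leaf ⟨[(nat_lit 4), (nat_lit 6), (nat_lit 4), (nat_lit 6)], (nat_lit 27), (nat_lit 0), (nat_lit 0), (nat_lit 3)⟩)) (BT.node (nat_lit 24) (BT.leaf ⟨[(nat_lit 7), (nat_lit 3), (nat_lit 7), (nat_lit 3)], (nat_lit 25), (nat_lit 1), (nat_lit 0), (nat_lit 3)⟩) (BT.leaf ⟨[(nat_lit 3), (nat_lit 6), (nat_lit 3),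 (nat_lit 6)], (nat_lit 23), (nat_lit 0), (nat_lit 0), (nat_lit 3)⟩)))) (BT.node (nat_lit 29) (BT.node (nat_lit 27) (BT.node (nat_lit 26) (BT.leaf ⟨[(nat_lit 7), (nat_lit 2), (nat_lit 7), (nat_lit 2)], (nat_lit 20), (nat_lit 1), (nat_lit 0), (nat_lit 3)⟩) (BT.leaf ⟨[(nat_lit 2), (nat_lit 6), (nat_lit 2), (nat_lit 6)], (nat_lit 18), (nat_lit 0), (nat_lit 0), (nat_lit 3)⟩)) (BT.node (nat_lit 28) (BT.leaf ⟨[(nat_lit 3), (nat_lit 5), (nat_lit 3), (nat_lit 5)], (nat_lit 22), (nat_lit 0), (nat_lit 0), (nat_lit 3)⟩) (BT.leaf ⟨[(nat_lit 2), (nat_lit 5), (nat_lit 2), (nat_lit 5)], (nat_lit 17), (nat_lit 0), (nat_lit 0), (nat_lit 3)⟩))) (BT.node (nat_lit 31) (BT.node (nat_lit 30) (BT.leaf ⟨[(nat_lit 3), (nat_lit 8), (nat_lit 3), (nat_lit 8)], (nat_lit 24), (nat_lit 0), (nat_lit 0), (nat_lit 3)⟩) (BT.leaf ⟨[(nat_lit 3), (nat_lit 1), (nat_lit 3), (nat_lit 1)], (nat_lit 9), (nat_lit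 1), (nat_lit 0), (nat_lit 3)⟩)) (BT.node (nat_lit 32) (BT.leaf ⟨[(nat_lit 4), (nat_lit 1), (nat_lit 4), (nat_lit 1)], (nat_lit 10), (nat_lit 1), (nat_lit 0), (nat_lit 3)⟩) (BT.node (nat_lit 33) (BT.leaf ⟨[(nat_lit 4), (nat_lit 2), (nat_lit 4), (nat_lit 2)], (nat_lit 16), (nat_lit 1), (nat_lit 0), (nat_lit 3)⟩) (BT.leaf ⟨[(nat_lit 5), (nat_lit 1), (nat_lit 5), (nat_lit 1)], (nat_lit 11), (nat_lit 1), (nat_lit 0), (nat_lit 3)⟩))))))) (BT.node (nat_lit 51) (BT.node (nat_lit 42) (BT.node (nat_lit 38) (BT.node (nat_lit 36) (BT.node (nat_lit 35) (BT.leaf ⟨[(nat_lit 5), (nat_lit 2), (nat_lit 5), (nat_lit 2)], (nat_lit 17), (nat_lit 1), (nat_lit 0), (nat_lit 3)⟩) (BT.leaf ⟨[(nat_lit 6), (nat_lit 1), (nat_lit 6), (nat_lit 1)], (nat_lit 12), (nat_lit 1), (nat_lit 0), (nat_lit 3)⟩)) (BT.node (nat_lit 37) (BT.leaf ⟨[(nat_lit 6), (nat_lit 2), (nat_lit 6), (nat_lit 2)], (nat_lit 18),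 (nat_lit 1), (nat_lit 0), (nat_lit 3)⟩) (BT.leaf ⟨[(nat_lit 7), (nat_lit 1), (nat_lit 7), (nat_lit 1)], (nat_lit 14), (nat_lit 1), (nat_lit 0), (nat_lit 3)⟩))) (BT.node (nat_lit 40) (BT.node (nat_lit 39) (BT.leaf ⟨[(nat_lit 8), (nat_lit 1), (nat_lit 8), (nat_lit 1)], (nat_lit 13), (nat_lit 1), (nat_lit 0), (nat_lit 3)⟩) (BT.leaf ⟨[(nat_lit 8), (nat_lit 2), (nat_lit 8), (nat_lit 2)], (nat_lit 19), (nat_lit 1), (nat_lit 0), (nat_lit 3)⟩)) (BT.node (nat_lit 41) (BT.leaf ⟨[(nat_lit 5), (nat_lit 3), (nat_lit 5), (nat_lit 3)], (nat_lit 22), (nat_lit 1), (nat_lit 0), (nat_lit 3)⟩) (BT.leaf ⟨[(nat_lit 6), (nat_lit 3), (nat_lit 6), (nat_lit 3)], (nat_lit 23), (nat_lit 1), (nat_lit 0), (nat_lit 3)⟩)))) (BT.node (nat_lit 46) (BT.node (nat_lit 44) (BT.node (nat_lit 43) (BT.leaf ⟨[(nat_lit 8), (nat_lit 3), (nat_lit 8), (nat_lit 3)], (nat_lit 24), (nat_lit 1), (nat_lit 0), (nat_lit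 3)⟩) (BT.leaf ⟨[(nat_lit 6), (nat_lit 4), (nat_lit 6), (nat_lit 4)], (nat_lit 27), (nat_lit 1), (nat_lit 0), (nat_lit 3)⟩)) (BT.node (nat_lit 45) (BT.leaf ⟨[(nat_lit 8), (nat_lit 4), (nat_lit 8), (nat_lit 4)], (nat_lit 28), (nat_lit 1), (nat_lit 0), (nat_lit 3)⟩) (BT.leaf ⟨[(nat_lit 2), (nat_lit 3), (nat_lit 2), (nat_lit 3), (nat_lit 2), (nat_lit 3)], (nat_lit 15), (nat_lit 0), (nat_lit 0), (nat_lit 3)⟩))) (BT.node (nat_lit 48) (BT.node (nat_lit 47) (BT.leaf ⟨[(nat_lit 2), (nat_lit 1), (nat_lit 2), (nat_lit 1)], (nat_lit 8), (nat_lit 1), (nat_lit 0), (nat_lit 3)⟩) (BT.leaf ⟨[(nat_lit 2), (nat_lit 4), (nat_lit 2), (nat_lit 4)], (nat_lit 16), (nat_lit 0), (nat_lit 0), (nat_lit 3)⟩)) (BT.node (nat_lit 49) (BT.leaf ⟨[(nat_lit 2), (nat_lit 8), (nat_lit 2), (nat_lit 8)], (nat_lit 19), (nat_lit 0), (nat_lit 0), (nat_lit 3)⟩) (BT.node (nat_lit 50) (BT.leaf ⟨[(nat_lit 2), (nat_lit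 7), (nat_lit 2), (nat_lit 7)], (nat_lit 20), (nat_lit 0), (nat_lit 0), (nat_lit 3)⟩) (BT.leaf ⟨[(nat_lit 3), (nat_lit 4), (nat_lit 3), (nat_lit 4), (nat_lit 3), (nat_lit 4)], (nat_lit 21), (nat_lit 0), (nat_lit 0), (nat_lit 3)⟩)))))) (BT.node (nat_lit 60) (BT.node (nat_lit 55) (BT.node (nat_lit 53) (BT.node (nat_lit 52) (BT.leaf ⟨[(nat_lit 3), (nat_lit 7), (nat_lit 3), (nat_lit 7)], (nat_lit 25), (nat_lit 0), (nat_lit 0), (nat_lit 3)⟩) (BT.leaf ⟨[(nat_lit 4), (nat_lit 5), (nat_lit 4), (nat_lit 5), (nat_lit 4), (nat_lit 5)], (nat_lit 26), (nat_lit 0), (nat_lit 0), (nat_lit 3)⟩)) (BT.node (nat_lit 54) (BT.leaf ⟨[(nat_lit 4), (nat_lit 8), (nat_lit 4), (nat_lit 8)], (nat_lit 28), (nat_lit 0), (nat_lit 0), (nat_lit 3)⟩) (BT.leaf ⟨[(nat_lit 4), (nat_lit 7), (nat_lit 4), (nat_lit 7)], (nat_lit 29), (nat_lit 0), (nat_lit 0), (nat_lit 3)⟩))) (BT.node (nat_lit 57) (BT.node (nat_lit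 56) (BT.leaf ⟨[(nat_lit 5), (nat_lit 6), (nat_lit 5), (nat_lit 6), (nat_lit 5), (nat_lit 6)], (nat_lit 30), (nat_lit 0), (nat_lit 0), (nat_lit 3)⟩) (BT.leaf ⟨[(nat_lit 5), (nat_lit 7), (nat_lit 5), (nat_lit 7)], (nat_lit 32), (nat_lit 0), (nat_lit 0), (nat_lit 3)⟩)) (BT.node (nat_lit 58) (BT.leaf ⟨[(nat_lit 5), (nat_lit 8), (nat_lit 5), (nat_lit 8), (nat_lit 5), (nat_lit 8)], (nat_lit 31), (nat_lit 0), (nat_lit 0), (nat_lit 3)⟩) (BT.node (nat_lit 59) (BT.leaf ⟨[(nat_lit 6), (nat_lit 7), (nat_lit 6), (nat_lit 7), (nat_lit 6), (nat_lit 7)], (nat_lit 34), (nat_lit 0), (nat_lit 0), (nat_lit 3)⟩) (BT.leaf ⟨[(nat_lit 3), (nat_lit 2), (nat_lit 3), (nat_lit 2), (nat_lit 3), (nat_lit 2)], (nat_lit 15), (nat_lit 1), (nat_lit 0), (nat_lit 3)⟩))))) (BT.node (nat_lit 64) (BT.node (nat_lit 62) (BT.node (nat_lit 61) (BT.leaf ⟨[(nat_lit 4), (nat_lit 3), (nat_lit 4), (nat_lit 3), (nat_lit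 4), (nat_lit 3)], (nat_lit 21), (nat_lit 1), (nat_lit 0), (nat_lit 3)⟩) (BT.leaf ⟨[(nat_lit 5), (nat_lit 4), (nat_lit 5), (nat_lit 4), (nat_lit 5), (nat_lit 4)], (nat_lit 26), (nat_lit 1), (nat_lit 0), (nat_lit 3)⟩)) (BT.node (nat_lit 63) (BT.leaf ⟨[(nat_lit 8), (nat_lit 5), (nat_lit 8), (nat_lit 5), (nat_lit 8), (nat_lit 5)], (nat_lit 31), (nat_lit 1), (nat_lit 0), (nat_lit 3)⟩) (BT.leaf ⟨[(nat_lit 8), (nat_lit 7), (nat_lit 8), (nat_lit 7)], (nat_lit 35), (nat_lit 0), (nat_lit 0), (nat_lit 3)⟩))) (BT.node (nat_lit 66) (BT.node (nat_lit 65) (BT.leaf ⟨[(nat_lit 8), (nat_lit 6), (nat_lit 8), (nat_lit 6)], (nat_lit 33), (nat_lit 1), (nat_lit 0), (nat_lit 3)⟩) (BT.leaf ⟨[(nat_lit 6), (nat_lit 5), (nat_lit 6), (nat_lit 5), (nat_lit 6), (nat_lit 5)], (nat_lit 30), (nat_lit 1), (nat_lit 0), (nat_lit 3)⟩)) (BT.node (nat_lit 67) (BT.leaf ⟨[(nat_lit 7), (nat_lit 6), (nat_lit 7),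 (nat_lit 6), (nat_lit 7), (nat_lit 6)], (nat_lit 34), (nat_lit 1), (nat_lit 0), (nat_lit 3)⟩) (BT.node (nat_lit 68) (BT.leaf ⟨[(nat_lit 4), (nat_lit 3), (nat_lit 2), (nat_lit 8), (nat_lit 7), (nat_lit 6), (nat_lit 5), (nat_lit 4), (nat_lit 3), (nat_lit 2), (nat_lit 8), (nat_lit 7), (nat_lit 6), (nat_lit 5), (nat_lit 4), (nat_lit 3), (nat_lit 2), (nat_lit 8), (nat_lit 7), (nat_lit 6), (nat_lit 5), (nat_lit 4), (nat_lit 3), (nat_lit 2), (nat_lit 1), (nat_lit 8), (nat_lit 7), (nat_lit 6), (nat_lit 5), (nat_lit 4), (nat_lit 3), (nat_lit 2), (nat_lit 8), (nat_lit 7), (nat_lit 6), (nat_lit 5), (nat_lit 4), (nat_lit 3), (nat_lit 2), (nat_lit 8), (nat_lit 7), (nat_lit 6), (nat_lit 5), (nat_lit 4), (nat_lit 3), (nat_lit 2), (nat_lit 8), (nat_lit 7), (nat_lit 6), (nat_lit 5), (nat_lit 4), (nat_lit 3), (nat_lit 2), (nat_lit 8), (nat_lit 7), (nat_lit 6), (nat_lit 5), (nat_lit 4),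 (nat_lit 3), (nat_lit 2), (nat_lit 8), (nat_lit 7), (nat_lit 6), (nat_lit 5)], (nat_lit 36), (nat_lit 40), (nat_lit 0), (nat_lit 3)⟩) (BT.leaf ⟨[(nat_lit 4), (nat_lit 3), (nat_lit 2), (nat_lit 8), (nat_lit 7), (nat_lit 6), (nat_lit 5), (nat_lit 4), (nat_lit 3), (nat_lit 2), (nat_lit 8), (nat_lit 7), (nat_lit 6), (nat_lit 5), (nat_lit 4), (nat_lit 3), (nat_lit 2), (nat_lit 8), (nat_lit 7), (nat_lit 6), (nat_lit 5), (nat_lit 4), (nat_lit 3), (nat_lit 2), (nat_lit 8), (nat_lit 7), (nat_lit 6), (nat_lit 5), (nat_lit 4), (nat_lit 3), (nat_lit 2), (nat_lit 8), (nat_lit 7), (nat_lit 6), (nat_lit 5), (nat_lit 4), (nat_lit 3), (nat_lit 2), (nat_lit 8), (nat_lit 7), (nat_lit 6), (nat_lit 5), (nat_lit 4), (nat_lit 3), (nat_lit 2), (nat_lit 8), (nat_lit 7), (nat_lit 6), (nat_lit 5), (nat_lit 4), (nat_lit 3), (nat_lit 2), (nat_lit 8), (nat_lit 7), (nat_lit 6), (nat_lit 5), (nat_lit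 4), (nat_lit 3), (nat_lit 2), (nat_lit 1), (nat_lit 8), (nat_lit 7), (nat_lit 6), (nat_lit 5)], (nat_lit 36), (nat_lit 5), (nat_lit 0), (nat_lit 3)⟩))))))))
noncomputable def e4_hcs : List CW := [⟨[(nat_lit 3)], (nat_lit 0), (nat_lit 0), (nat_lit 0), (nat_lit 0)⟩, ⟨[(nat_lit 4)], (nat_lit 1), (nat_lit 0), (nat_lit 0), (nat_lit 0)⟩, ⟨[(nat_lit 5)], (nat_lit 2), (nat_lit 0), (nat_lit 0), (nat_lit 0)⟩, ⟨[(nat_lit 6)], (nat_lit 3), (nat_lit 0), (nat_lit 0), (nat_lit 0)⟩, ⟨[(nat_lit 7)], (nat_lit 4), (nat_lit 0), (nat_lit 0), (nat_lit 0)⟩, ⟨[(nat_lit 8)], (nat_lit 5), (nat_lit 0), (nat_lit 0), (nat_lit 0)⟩, ⟨[(nat_lit 3)], (nat_lit 6), (nat_lit 0), (nat_lit 0), (nat_lit 0)⟩, ⟨[(nat_lit 4)], (nat_lit 7), (nat_lit 0), (nat_lit 0), (nat_lit 0)⟩, ⟨[(nat_lit 5)], (nat_lit 8), (nat_lit 0), (nat_lit 0), (nat_lit 0)⟩, ⟨[(nat_lit 6)], (nat_lit 9), (nat_lit 0), (nat_lit 0), (nat_lit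 0)⟩, ⟨[(nat_lit 7)], (nat_lit 10), (nat_lit 0), (nat_lit 0), (nat_lit 0)⟩, ⟨[(nat_lit 8)], (nat_lit 11), (nat_lit 0), (nat_lit 0), (nat_lit 0)⟩]
noncomputable def e4_H (x j : Nat) : Bx (Nat → Nat → Nat) := mkH e4_L e4_pb.1 e4_e.get (lmap CW.w e4_hcs) (nat_lit 56) (nat_lit 57) (nat_lit 9) (nat_lit 64) (nat_lit 8192) (nat_lit 4095) x (e4_rots.get j)
noncomputable def e4_F (x b : Nat) : Bool := blkOK e4_H e4_ch (nat_lit 57) (nat_lit 64) (nat_lit 128) (nat_lit 8) (nat_lit 255) (nat_lit 18) (nat_lit 262143) x b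

theorem e4_k0_0 : allFrom (e4_F (nat_lit 0)) (nat_lit 0) (nat_lit 4) = true := by decide +kernel
theorem e4_k1_0 : allFrom (e4_F (nat_lit 1)) (nat_lit 0) (nat_lit 4) = true := by decide +kernel
theorem e4_k2_0 : allFrom (e4_F (nat_lit 2)) (nat_lit 0) (nat_lit 4) = true := by decide +kernel
theorem e4_k3_0 : allFrom (e4_F (nat_lit 3)) (nat_lit 0) (nat_lit 4) = true := by decide +kernel
theorem e4_k4_0 : allFrom (e4_F (nat_lit 4)) (nat_lit 0) (nat_lit 4) = true := by decide +kernel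
theorem e4_k5_0 : allFrom (e4_F (nat_lit 5)) (nat_lit 0) (nat_lit 4) = true := by decide +kernel
theorem e4_k6_0 : allFrom (e4_F (nat_lit 6)) (nat_lit 0) (nat_lit 4) = true := by decide +kernel
theorem e4_k7_0 : allFrom (e4_F (nat_lit 7)) (nat_lit 0) (nat_lit 4) = true := by decide +kernel
theorem e4_k8_0 : allFrom (e4_F (nat_lit 8)) (nat_lit 0) (nat_lit 4) = true := by decide +kernel

noncomputable def e5_c0 : BT (Bx Nat) := (BT.leaf (Bx.mk (nat_lit 0x0)))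
noncomputable def e5_c1 : BT (Bx Nat) := (BT.leaf (Bx.mk (nat_lit 0x26b6686911caa58912accda92bd893c469a847049708de118e83bc18782f869728aa5a4d248a68f691ad02e224d647c207c110000)))
noncomputable def e5_c2 : BT (Bx Nat) := (BT.leaf (Bx.mk (nat_lit 0x273667691bcea77c171c2d193af83676e6a74b4e73390885f82c7855f0aaf05be0b25c4d268a70f699ace2e364e145e08fc308000)))
noncomputable def e5_c3 : BT (Bx Nat) := (BT.leaf (Bx.mk (nat_lit 0x27b66eeb86c7839552e91599faf0d2e1a3e0d3c19b3d0851f0eba1e6cc4ce193c323c15f82aa78f6f9add2f0c3f049aa0bc308000)))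
noncomputable def e5_c4 : BT (Bx Nat) := (BT.leaf (Bx.mk (nat_lit 0x2837c3e7c1d215852aeabd98aab2b479a7c3c3876f832855fc3afc18caecf05d532a4a4e946a80f83a38727825c5c7aa8bc308000)))
noncomputable def e5_c5 : BT (Bx Nat) := (BT.leaf (Bx.mk (nat_lit 0xe275e0ecccca17852eea6d98bab1947326e7ca0d8b92f83e133ba49651adb255862f4b46129e24b459bc13d984c347a78bc308000)))
noncomputable def e5_c6 : BT (Bx Nat) := (BT.leaf (Bx.mk (nat_lit 0x193652e8e3cf116e229e0e3889f837f06ab2c9e58b490859f12ba246cb0c991751ab883f105f053c413c147826c607ab0bc308000)))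
noncomputable def e5_p : BT (Bx Nat) := (BT.leaf (Bx.mk (nat_lit 0x86857e4476036d86650665025cc65c83544354044b444b41430142c442c23a823a43320331c6294629452106210418c31082084100000000)))
noncomputable def e5_e0 : BT Nat := (BT.node (nat_lit 68) (BT.node (nat_lit 67) (BT.leaf (nat_lit 2)) (BT.leaf (nat_lit 262146))) (BT.node (nat_lit 69) (BT.leaf (nat_lit 524290)) (BT.node (nat_lit 70) (BT.leaf (nat_lit 786434)) (BT.leaf (nat_lit 1048578)))))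
noncomputable def e5_e : BT Nat := e5_e0
noncomputable def e5_cols : List (BT (Bx Nat)) := [e5_c0, e5_c1, e5_c2, e5_c3, e5_c4, e5_c5, e5_c6]
noncomputable def e5_ch (x j : Nat) : Bx Nat := chunkG e5_cols (nat_lit 1) x j
noncomputable def e5_L (x : Nat) : Bx (Nat → Nat) := lookG e5_ch (nat_lit 8) (nat_lit 255) (nat_lit 15) (nat_lit 32767) x
noncomputable def e5_pc (_ j : Nat) : Bx Nat := e5_p.get j
noncomputable def e5_pb : Bx (Nat → Nat) := lookG e5_pc (nat_lit 8) (nat_lit 255) (nat_lit 16) (nat_lit 65535) (nat_lit 0)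
noncomputable def e5_rots : BT CW := (BT.node (nat_lit 19) (BT.node (nat_lit 9) (BT.node (nat_lit 4) (BT.node (nat_lit 2) (BT.node (nat_lit 1) (BT.leaf ⟨[], (nat_lit 1000000), (nat_lit 0), (nat_lit 0), (nat_lit 0)⟩) (BT.leaf ⟨[], (nat_lit 1000000), (nat_lit 0), (nat_lit 0), (nat_lit 1)⟩)) (BT.node (nat_lit 3) (BT.leaf ⟨[], (nat_lit 1000000), (nat_lit 0), (nat_lit 0), (nat_lit 2)⟩) (BT.leaf ⟨[(nat_lit 1), (nat_lit 1)], (nat_lit 0), (nat_lit 0), (nat_lit 0), (nat_lit 3)⟩))) (BT.node (nat_lit 6) (BT.node (nat_lit 5) (BT.leaf ⟨[(nat_lit 2), (nat_lit 2)], (nat_lit 1), (nat_lit 0), (nat_lit 0), (nat_lit 3)⟩) (BT.leaf ⟨[(nat_lit 3), (nat_lit 3)], (nat_lit 2), (nat_lit 0), (nat_lit 0), (nat_lit 3)⟩)) (BT.node (nat_lit 7) (BT.leaf ⟨[(nat_lit 4), (nat_lit 4)], (nat_lit 3), (nat_lit 0), (nat_lit 0), (nat_lit 3)⟩) (BT.node (nat_lit 8) (BT.leaf ⟨[(nat_lit 6), (nat_lit 6)], (nat_lit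 4), (nat_lit 0), (nat_lit 0), (nat_lit 3)⟩) (BT.leaf ⟨[(nat_lit 5), (nat_lit 5)], (nat_lit 5), (nat_lit 0), (nat_lit 0), (nat_lit 3)⟩))))) (BT.node (nat_lit 14) (BT.node (nat_lit 11) (BT.node (nat_lit 10) (BT.leaf ⟨[(nat_lit 4), (nat_lit 6), (nat_lit 4), (nat_lit 6)], (nat_lit 18), (nat_lit 0), (nat_lit 0), (nat_lit 3)⟩) (BT.leaf ⟨[(nat_lit 5), (nat_lit 6), (nat_lit 5), (nat_lit 6)], (nat_lit 20), (nat_lit 1), (nat_lit 0), (nat_lit 3)⟩)) (BT.node (nat_lit 12) (BT.leaf ⟨[(nat_lit 5), (nat_lit 3), (nat_lit 5), (nat_lit 3)], (nat_lit 17), (nat_lit 1), (nat_lit 0), (nat_lit 3)⟩) (BT.node (nat_lit 13) (BT.leaf ⟨[(nat_lit 5), (nat_lit 2), (nat_lit 5), (nat_lit 2)], (nat_lit 14), (nat_lit 1), (nat_lit 0), (nat_lit 3)⟩) (BT.leaf ⟨[(nat_lit 2), (nat_lit 4), (nat_lit 2), (nat_lit 4)], (nat_lit 12), (nat_lit 0), (nat_lit 0), (nat_lit 3)⟩)))) (BT.node (nat_lit 16) (BT.node (nat_lit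 15) (BT.leaf ⟨[(nat_lit 5), (nat_lit 1), (nat_lit 5), (nat_lit 1)], (nat_lit 10), (nat_lit 1), (nat_lit 0), (nat_lit 3)⟩) (BT.leaf ⟨[(nat_lit 1), (nat_lit 4), (nat_lit 1), (nat_lit 4)], (nat_lit 8), (nat_lit 0), (nat_lit 0), (nat_lit 3)⟩)) (BT.node (nat_lit 17) (BT.leaf ⟨[(nat_lit 1), (nat_lit 3), (nat_lit 1), (nat_lit 3)], (nat_lit 7), (nat_lit 0), (nat_lit 0), (nat_lit 3)⟩) (BT.node (nat_lit 18) (BT.leaf ⟨[(nat_lit 1), (nat_lit 6), (nat_lit 1), (nat_lit 6)], (nat_lit 9), (nat_lit 0), (nat_lit 0), (nat_lit 3)⟩) (BT.leaf ⟨[(nat_lit 2), (nat_lit 6), (nat_lit 2), (nat_lit 6)], (nat_lit 13), (nat_lit 0), (nat_lit 0), (nat_lit 3)⟩)))))) (BT.node (nat_lit 29) (BT.node (nat_lit 24) (BT.node (nat_lit 21) (BT.node (nat_lit 20) (BT.leaf ⟨[(nat_lit 3), (nat_lit 1), (nat_lit 3), (nat_lit 1)], (nat_lit 7), (nat_lit 1), (nat_lit 0), (nat_lit 3)⟩) (BT.leaf ⟨[(nat_lit 4), (nat_lit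 1), (nat_lit 4), (nat_lit 1)], (nat_lit 8), (nat_lit 1), (nat_lit 0), (nat_lit 3)⟩)) (BT.node (nat_lit 22) (BT.leaf ⟨[(nat_lit 6), (nat_lit 1), (nat_lit 6), (nat_lit 1)], (nat_lit 9), (nat_lit 1), (nat_lit 0), (nat_lit 3)⟩) (BT.node (nat_lit 23) (BT.leaf ⟨[(nat_lit 4), (nat_lit 2), (nat_lit 4), (nat_lit 2)], (nat_lit 12), (nat_lit 1), (nat_lit 0), (nat_lit 3)⟩) (BT.leaf ⟨[(nat_lit 6), (nat_lit 2), (nat_lit 6), (nat_lit 2)], (nat_lit 13), (nat_lit 1), (nat_lit 0), (nat_lit 3)⟩)))) (BT.node (nat_lit 26) (BT.node (nat_lit 25) (BT.leaf ⟨[(nat_lit 1), (nat_lit 2), (nat_lit 1), (nat_lit 2), (nat_lit 1), (nat_lit 2)], (nat_lit 6), (nat_lit 0), (nat_lit 0), (nat_lit 3)⟩) (BT.leaf ⟨[(nat_lit 1), (nat_lit 5), (nat_lit 1), (nat_lit 5)], (nat_lit 10), (nat_lit 0), (nat_lit 0), (nat_lit 3)⟩)) (BT.node (nat_lit 27) (BT.leaf ⟨[(nat_lit 2), (nat_lit 3), (nat_lit 2), (nat_lit 3), (nat_lit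 2), (nat_lit 3)], (nat_lit 11), (nat_lit 0), (nat_lit 0), (nat_lit 3)⟩) (BT.node (nat_lit 28) (BT.leaf ⟨[(nat_lit 2), (nat_lit 5), (nat_lit 2), (nat_lit 5)], (nat_lit 14), (nat_lit 0), (nat_lit 0), (nat_lit 3)⟩) (BT.leaf ⟨[(nat_lit 3), (nat_lit 4), (nat_lit 3), (nat_lit 4), (nat_lit 3), (nat_lit 4)], (nat_lit 15), (nat_lit 0), (nat_lit 0), (nat_lit 3)⟩))))) (BT.node (nat_lit 34) (BT.node (nat_lit 31) (BT.node (nat_lit 30) (BT.leaf ⟨[(nat_lit 3), (nat_lit 5), (nat_lit 3), (nat_lit 5)], (nat_lit 17), (nat_lit 0), (nat_lit 0), (nat_lit 3)⟩) (BT.leaf ⟨[(nat_lit 3), (nat_lit 6), (nat_lit 3), (nat_lit 6), (nat_lit 3), (nat_lit 6)], (nat_lit 16), (nat_lit 0), (nat_lit 0), (nat_lit 3)⟩)) (BT.node (nat_lit 32) (BT.leaf ⟨[(nat_lit 4), (nat_lit 5), (nat_lit 4), (nat_lit 5), (nat_lit 4), (nat_lit 5)], (nat_lit 19), (nat_lit 0), (nat_lit 0), (nat_lit 3)⟩) (BT.node (nat_lit 33) (BT.leaf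 ⟨[(nat_lit 2), (nat_lit 1), (nat_lit 2), (nat_lit 1), (nat_lit 2), (nat_lit 1)], (nat_lit 6), (nat_lit 1), (nat_lit 0), (nat_lit 3)⟩) (BT.leaf ⟨[(nat_lit 3), (nat_lit 2), (nat_lit 3), (nat_lit 2), (nat_lit 3), (nat_lit 2)], (nat_lit 11), (nat_lit 1), (nat_lit 0), (nat_lit 3)⟩)))) (BT.node (nat_lit 36) (BT.node (nat_lit 35) (BT.leaf ⟨[(nat_lit 6), (nat_lit 3), (nat_lit 6), (nat_lit 3), (nat_lit 6), (nat_lit 3)], (nat_lit 16), (nat_lit 1), (nat_lit 0), (nat_lit 3)⟩) (BT.leaf ⟨[(nat_lit 6), (nat_lit 5), (nat_lit 6), (nat_lit 5)], (nat_lit 20), (nat_lit 0), (nat_lit 0), (nat_lit 3)⟩)) (BT.node (nat_lit 37) (BT.leaf ⟨[(nat_lit 6), (nat_lit 4), (nat_lit 6), (nat_lit 4)], (nat_lit 18), (nat_lit 1), (nat_lit 0), (nat_lit 3)⟩) (BT.node (nat_lit 38) (BT.leaf ⟨[(nat_lit 4), (nat_lit 3), (nat_lit 4), (nat_lit 3), (nat_lit 4), (nat_lit 3)], (nat_lit 15), (nat_lit 1), (nat_lit 0),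 (nat_lit 3)⟩) (BT.leaf ⟨[(nat_lit 5), (nat_lit 4), (nat_lit 5), (nat_lit 4), (nat_lit 5), (nat_lit 4)], (nat_lit 19), (nat_lit 1), (nat_lit 0), (nat_lit 3)⟩)))))))
noncomputable def e5_hcs : List CW := [⟨[(nat_lit 2)], (nat_lit 0), (nat_lit 0), (nat_lit 0), (nat_lit 0)⟩, ⟨[(nat_lit 3)], (nat_lit 1), (nat_lit 0), (nat_lit 0), (nat_lit 0)⟩, ⟨[(nat_lit 4)], (nat_lit 2), (nat_lit 0), (nat_lit 0), (nat_lit 0)⟩, ⟨[(nat_lit 5)], (nat_lit 3), (nat_lit 0), (nat_lit 0), (nat_lit 0)⟩, ⟨[(nat_lit 6)], (nat_lit 4), (nat_lit 0), (nat_lit 0), (nat_lit 0)⟩, ⟨[(nat_lit 2)], (nat_lit 5), (nat_lit 0), (nat_lit 0), (nat_lit 0)⟩, ⟨[(nat_lit 3)], (nat_lit 6), (nat_lit 0), (nat_lit 0), (nat_lit 0)⟩, ⟨[(nat_lit 4)], (nat_lit 7), (nat_lit 0), (nat_lit 0), (nat_lit 0)⟩, ⟨[(nat_lit 5)], (nat_lit 8), (nat_lit 0), (nat_lit 0), (nat_lit 0)⟩, ⟨[(nat_lit 6)], (nat_lit 9), (nat_lit 0), (nat_lit 0),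 (nat_lit 0)⟩]
noncomputable def e5_H (x j : Nat) : Bx (Nat → Nat → Nat) := mkH e5_L e5_pb.1 e5_e.get (lmap CW.w e5_hcs) (nat_lit 27) (nat_lit 28) (nat_lit 7) (nat_lit 32) (nat_lit 2048) (nat_lit 2047) x (e5_rots.get j)
noncomputable def e5_F (x b : Nat) : Bool := blkOK e5_H e5_ch (nat_lit 28) (nat_lit 32) (nat_lit 64) (nat_lit 8) (nat_lit 255) (nat_lit 15) (nat_lit 32767) x b

theorem e5_k0_0 : allFrom (e5_F (nat_lit 0)) (nat_lit 0) (nat_lit 4) = true := by decide +kernel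
theorem e5_k1_0 : allFrom (e5_F (nat_lit 1)) (nat_lit 0) (nat_lit 4) = true := by decide +kernel
theorem e5_k2_0 : allFrom (e5_F (nat_lit 2)) (nat_lit 0) (nat_lit 4) = true := by decide +kernel
theorem e5_k3_0 : allFrom (e5_F (nat_lit 3)) (nat_lit 0) (nat_lit 4) = true := by decide +kernel
theorem e5_k4_0 : allFrom (e5_F (nat_lit 4)) (nat_lit 0) (nat_lit 4) = true := by decide +kernel
theorem e5_k5_0 : allFrom (e5_F (nat_lit 5)) (nat_lit 0) (nat_lit 4) = true := by decide +kernel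
theorem e5_k6_0 : allFrom (e5_F (nat_lit 6)) (nat_lit 0) (nat_lit 4) = true := by decide +kernel

noncomputable def e6_c0 : BT (Bx Nat) := (BT.leaf (Bx.mk (nat_lit 0x0)))
noncomputable def e6_c1 : BT (Bx Nat) := (BT.leaf (Bx.mk (nat_lit 0x20cf90c092e3534d2c472d14a531d7686525d25631a0c39091dc29184000)))
noncomputable def e6_c2 : BT (Bx Nat) := (BT.leaf (Bx.mk (nat_lit 0x6b082ba42f35b4ecc4cadd6962aa0a6559e4286b15aa4828a4239184000)))
noncomputable def e6_c3 : BT (Bx Nat) := (BT.leaf (Bx.mk (nat_lit 0x7102d3ddad63ba0ea46ae42c4c257485b9e0e4838e4269095da29184000)))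
noncomputable def e6_c4 : BT (Bx Nat) := (BT.leaf (Bx.mk (nat_lit 0x61027bcd8e762d38c6436108841a42a8416429909d604678dd829184000)))
noncomputable def e6_c5 : BT (Bx Nat) := (BT.leaf (Bx.mk (nat_lit 0x65028be08c822a42e822242d4a2642b5a1d6666995a44788e0819088000)))
noncomputable def e6_p : BT (Bx Nat) := (BT.leaf (Bx.mk (nat_lit 0x53c197050c15d42ba83640ac8114c229824288840cc6198c1210421140000000)))
noncomputable def e6_e0 : BT Nat := (BT.node (nat_lit 67) (BT.node (nat_lit 66) (BT.leaf (nat_lit 2)) (BT.leaf (nat_lit 262146))) (BT.node (nat_lit 68) (BT.leaf (nat_lit 524290)) (BT.leaf (nat_lit 786434))))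
noncomputable def e6_e : BT Nat := e6_e0
noncomputable def e6_cols : List (BT (Bx Nat)) := [e6_c0, e6_c1, e6_c2, e6_c3, e6_c4, e6_c5]
noncomputable def e6_ch (x j : Nat) : Bx Nat := chunkG e6_cols (nat_lit 1) x j
noncomputable def e6_L (x : Nat) : Bx (Nat → Nat) := lookG e6_ch (nat_lit 8) (nat_lit 255) (nat_lit 14) (nat_lit 16383) x
noncomputable def e6_pc (_ j : Nat) : Bx Nat := e6_p.get j
noncomputable def e6_pb : Bx (Nat → Nat) := lookG e6_pc (nat_lit 8) (nat_lit 255) (nat_lit 15) (nat_lit 32767) (nat_lit 0)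
noncomputable def e6_rots : BT CW := (BT.node (nat_lit 14) (BT.node (nat_lit 7) (BT.node (nat_lit 3) (BT.node (nat_lit 1) (BT.leaf ⟨[], (nat_lit 1000000), (nat_lit 0), (nat_lit 0), (nat_lit 0)⟩) (BT.node (nat_lit 2) (BT.leaf ⟨[], (nat_lit 1000000), (nat_lit 0), (nat_lit 0), (nat_lit 1)⟩) (BT.leaf ⟨[], (nat_lit 1000000), (nat_lit 0), (nat_lit 0), (nat_lit 2)⟩))) (BT.node (nat_lit 5) (BT.node (nat_lit 4) (BT.leaf ⟨[(nat_lit 5), (nat_lit 5)], (nat_lit 3), (nat_lit 0), (nat_lit 0), (nat_lit 3)⟩) (BT.leaf ⟨[(nat_lit 2), (nat_lit 2)], (nat_lit 1), (nat_lit 0), (nat_lit 0), (nat_lit 3)⟩)) (BT.node (nat_lit 6) (BT.leaf ⟨[(nat_lit 1), (nat_lit 1)], (nat_lit 0), (nat_lit 0), (nat_lit 0), (nat_lit 3)⟩) (BT.leaf ⟨[(nat_lit 3), (nat_lit 3)], (nat_lit 2), (nat_lit 0), (nat_lit 0), (nat_lit 3)⟩)))) (BT.node (nat_lit 10) (BT.node (nat_lit 8) (BT.leaf ⟨[(nat_lit 4), (nat_lit 4)], (nat_lit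 4), (nat_lit 0), (nat_lit 0), (nat_lit 3)⟩) (BT.node (nat_lit 9) (BT.leaf ⟨[(nat_lit 1), (nat_lit 3), (nat_lit 1), (nat_lit 3)], (nat_lit 6), (nat_lit 0), (nat_lit 0), (nat_lit 3)⟩) (BT.leaf ⟨[(nat_lit 1), (nat_lit 4), (nat_lit 1), (nat_lit 4)], (nat_lit 8), (nat_lit 0), (nat_lit 0), (nat_lit 3)⟩))) (BT.node (nat_lit 12) (BT.node (nat_lit 11) (BT.leaf ⟨[(nat_lit 2), (nat_lit 4), (nat_lit 2), (nat_lit 4)], (nat_lit 11), (nat_lit 0), (nat_lit 0), (nat_lit 3)⟩) (BT.leaf ⟨[(nat_lit 4), (nat_lit 5), (nat_lit 4), (nat_lit 5)], (nat_lit 14), (nat_lit 1), (nat_lit 0), (nat_lit 3)⟩)) (BT.node (nat_lit 13) (BT.leaf ⟨[(nat_lit 3), (nat_lit 5), (nat_lit 3), (nat_lit 5)], (nat_lit 12), (nat_lit 0), (nat_lit 0), (nat_lit 3)⟩) (BT.leaf ⟨[(nat_lit 1), (nat_lit 5), (nat_lit 1), (nat_lit 5)], (nat_lit 7), (nat_lit 0), (nat_lit 0), (nat_lit 3)⟩))))) (BT.node (nat_lit 21) (BT.node (nat_lit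 17) (BT.node (nat_lit 15) (BT.leaf ⟨[(nat_lit 4), (nat_lit 2), (nat_lit 4), (nat_lit 2)], (nat_lit 11), (nat_lit 1), (nat_lit 0), (nat_lit 3)⟩) (BT.node (nat_lit 16) (BT.leaf ⟨[(nat_lit 4), (nat_lit 1), (nat_lit 4), (nat_lit 1)], (nat_lit 8), (nat_lit 1), (nat_lit 0), (nat_lit 3)⟩) (BT.leaf ⟨[(nat_lit 5), (nat_lit 2), (nat_lit 5), (nat_lit 2), (nat_lit 5), (nat_lit 2)], (nat_lit 10), (nat_lit 1), (nat_lit 0), (nat_lit 3)⟩))) (BT.node (nat_lit 19) (BT.node (nat_lit 18) (BT.leaf ⟨[(nat_lit 5), (nat_lit 1), (nat_lit 5), (nat_lit 1)], (nat_lit 7), (nat_lit 1), (nat_lit 0), (nat_lit 3)⟩) (BT.leaf ⟨[(nat_lit 5), (nat_lit 3), (nat_lit 5), (nat_lit 3)], (nat_lit 12), (nat_lit 1), (nat_lit 0), (nat_lit 3)⟩)) (BT.node (nat_lit 20) (BT.leaf ⟨[(nat_lit 5), (nat_lit 4), (nat_lit 5), (nat_lit 4)], (nat_lit 14), (nat_lit 0), (nat_lit 0), (nat_lit 3)⟩) (BT.leaf ⟨[(nat_lit 2), (nat_lit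 1), (nat_lit 2), (nat_lit 1), (nat_lit 2), (nat_lit 1)], (nat_lit 5), (nat_lit 1), (nat_lit 0), (nat_lit 3)⟩)))) (BT.node (nat_lit 24) (BT.node (nat_lit 22) (BT.leaf ⟨[(nat_lit 2), (nat_lit 3), (nat_lit 2), (nat_lit 3), (nat_lit 2), (nat_lit 3)], (nat_lit 9), (nat_lit 0), (nat_lit 0), (nat_lit 3)⟩) (BT.node (nat_lit 23) (BT.leaf ⟨[(nat_lit 3), (nat_lit 4), (nat_lit 3), (nat_lit 4), (nat_lit 3), (nat_lit 4)], (nat_lit 13), (nat_lit 0), (nat_lit 0), (nat_lit 3)⟩) (BT.leaf ⟨[(nat_lit 3), (nat_lit 1), (nat_lit 3), (nat_lit 1)], (nat_lit 6), (nat_lit 1), (nat_lit 0), (nat_lit 3)⟩))) (BT.node (nat_lit 26) (BT.node (nat_lit 25) (BT.leaf ⟨[(nat_lit 2), (nat_lit 5), (nat_lit 2), (nat_lit 5), (nat_lit 2), (nat_lit 5)], (nat_lit 10), (nat_lit 0), (nat_lit 0), (nat_lit 3)⟩) (BT.leaf ⟨[(nat_lit 3), (nat_lit 2), (nat_lit 3), (nat_lit 2), (nat_lit 3), (nat_lit 2)], (nat_lit 9), (nat_lit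 1), (nat_lit 0), (nat_lit 3)⟩)) (BT.node (nat_lit 27) (BT.leaf ⟨[(nat_lit 1), (nat_lit 2), (nat_lit 1), (nat_lit 2), (nat_lit 1), (nat_lit 2)], (nat_lit 5), (nat_lit 0), (nat_lit 0), (nat_lit 3)⟩) (BT.leaf ⟨[(nat_lit 4), (nat_lit 3), (nat_lit 4), (nat_lit 3), (nat_lit 4), (nat_lit 3)], (nat_lit 13), (nat_lit 1), (nat_lit 0), (nat_lit 3)⟩))))))
noncomputable def e6_hcs : List CW := [⟨[(nat_lit 1)], (nat_lit 0), (nat_lit 0), (nat_lit 0), (nat_lit 0)⟩, ⟨[(nat_lit 2)], (nat_lit 1), (nat_lit 0), (nat_lit 0), (nat_lit 0)⟩, ⟨[(nat_lit 3)], (nat_lit 2), (nat_lit 0), (nat_lit 0), (nat_lit 0)⟩, ⟨[(nat_lit 4)], (nat_lit 3), (nat_lit 0), (nat_lit 0), (nat_lit 0)⟩, ⟨[(nat_lit 1)], (nat_lit 4), (nat_lit 0), (nat_lit 0), (nat_lit 0)⟩, ⟨[(nat_lit 2)], (nat_lit 5), (nat_lit 0), (nat_lit 0), (nat_lit 0)⟩, ⟨[(nat_lit 3)], (nat_lit 6), (nat_lit 0), (nat_lit 0), (nat_lit 0)⟩, ⟨[(nat_lit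 4)], (nat_lit 7), (nat_lit 0), (nat_lit 0), (nat_lit 0)⟩]
noncomputable def e6_H (x j : Nat) : Bx (Nat → Nat → Nat) := mkH e6_L e6_pb.1 e6_e.get (lmap CW.w e6_hcs) (nat_lit 16) (nat_lit 17) (nat_lit 6) (nat_lit 32) (nat_lit 1024) (nat_lit 2047) x (e6_rots.get j)
noncomputable def e6_F (x b : Nat) : Bool := blkOK e6_H e6_ch (nat_lit 17) (nat_lit 32) (nat_lit 32) (nat_lit 8) (nat_lit 255) (nat_lit 14) (nat_lit 16383) x b

theorem e6_k0_0 : allFrom (e6_F (nat_lit 0)) (nat_lit 0) (nat_lit 4) = true := by decide +kernel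
theorem e6_k1_0 : allFrom (e6_F (nat_lit 1)) (nat_lit 0) (nat_lit 4) = true := by decide +kernel
theorem e6_k2_0 : allFrom (e6_F (nat_lit 2)) (nat_lit 0) (nat_lit 4) = true := by decide +kernel
theorem e6_k3_0 : allFrom (e6_F (nat_lit 3)) (nat_lit 0) (nat_lit 4) = true := by decide +kernel
theorem e6_k4_0 : allFrom (e6_F (nat_lit 4)) (nat_lit 0) (nat_lit 4) = true := by decide +kernel
theorem e6_k5_0 : allFrom (e6_F (nat_lit 5)) (nat_lit 0) (nat_lit 4) = true := by decide +kernel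

noncomputable def e7_c0 : BT (Bx Nat) := (BT.leaf (Bx.mk (nat_lit 0x0)))
noncomputable def e7_c1 : BT (Bx Nat) := (BT.leaf (Bx.mk (nat_lit 0x21e50d4a6d0a8c800)))
noncomputable def e7_c2 : BT (Bx Nat) := (BT.leaf (Bx.mk (nat_lit 0xc2c33a18d2a8c800)))
noncomputable def e7_c3 : BT (Bx Nat) := (BT.leaf (Bx.mk (nat_lit 0xbea7485542e8c800)))
noncomputable def e7_c4 : BT (Bx Nat) := (BT.leaf (Bx.mk (nat_lit 0xb6a646b708685000)))
noncomputable def e7_p : BT (Bx Nat) := (BT.leaf (Bx.mk (nat_lit 0x9016c2483244000000)))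
noncomputable def e7_e0 : BT Nat := (BT.node (nat_lit 66) (BT.leaf (nat_lit 2)) (BT.node (nat_lit 67) (BT.leaf (nat_lit 262146)) (BT.leaf (nat_lit 524290))))
noncomputable def e7_e : BT Nat := e7_e0
noncomputable def e7_cols : List (BT (Bx Nat)) := [e7_c0, e7_c1, e7_c2, e7_c3, e7_c4]
noncomputable def e7_ch (x j : Nat) : Bx Nat := chunkG e7_cols (nat_lit 1) x j
noncomputable def e7_L (x : Nat) : Bx (Nat → Nat) := lookG e7_ch (nat_lit 8) (nat_lit 255) (nat_lit 11) (nat_lit 2047) x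
noncomputable def e7_pc (_ j : Nat) : Bx Nat := e7_p.get j
noncomputable def e7_pb : Bx (Nat → Nat) := lookG e7_pc (nat_lit 8) (nat_lit 255) (nat_lit 12) (nat_lit 4095) (nat_lit 0)
noncomputable def e7_rots : BT CW := (BT.node (nat_lit 8) (BT.node (nat_lit 4) (BT.node (nat_lit 2) (BT.node (nat_lit 1) (BT.leaf ⟨[], (nat_lit 1000000), (nat_lit 0), (nat_lit 0), (nat_lit 0)⟩) (BT.leaf ⟨[], (nat_lit 1000000), (nat_lit 0), (nat_lit 0), (nat_lit 1)⟩)) (BT.node (nat_lit 3) (BT.leaf ⟨[], (nat_lit 1000000), (nat_lit 0), (nat_lit 0), (nat_lit 2)⟩) (BT.leaf ⟨[(nat_lit 4), (nat_lit 4)], (nat_lit 3), (nat_lit 0), (nat_lit 0), (nat_lit 3)⟩))) (BT.node (nat_lit 6) (BT.node (nat_lit 5) (BT.leaf ⟨[(nat_lit 3), (nat_lit 3)], (nat_lit 2), (nat_lit 0), (nat_lit 0), (nat_lit 3)⟩) (BT.leaf ⟨[(nat_lit 2), (nat_lit 2)], (nat_lit 1), (nat_lit 0), (nat_lit 0), (nat_lit 3)⟩)) (BT.node (nat_lit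 7) (BT.leaf ⟨[(nat_lit 1), (nat_lit 1)], (nat_lit 0), (nat_lit 0), (nat_lit 0), (nat_lit 3)⟩) (BT.leaf ⟨[(nat_lit 1), (nat_lit 4), (nat_lit 1), (nat_lit 4)], (nat_lit 6), (nat_lit 0), (nat_lit 0), (nat_lit 3)⟩)))) (BT.node (nat_lit 12) (BT.node (nat_lit 10) (BT.node (nat_lit 9) (BT.leaf ⟨[(nat_lit 2), (nat_lit 4), (nat_lit 2), (nat_lit 4)], (nat_lit 8), (nat_lit 0), (nat_lit 0), (nat_lit 3)⟩) (BT.leaf ⟨[(nat_lit 1), (nat_lit 3), (nat_lit 1), (nat_lit 3)], (nat_lit 5), (nat_lit 0), (nat_lit 0), (nat_lit 3)⟩)) (BT.node (nat_lit 11) (BT.leaf ⟨[(nat_lit 4), (nat_lit 3), (nat_lit 4), (nat_lit 3), (nat_lit 4), (nat_lit 3)], (nat_lit 9), (nat_lit 1), (nat_lit 0), (nat_lit 3)⟩) (BT.leaf ⟨[(nat_lit 4), (nat_lit 2), (nat_lit 4), (nat_lit 2)], (nat_lit 8), (nat_lit 1), (nat_lit 0), (nat_lit 3)⟩))) (BT.node (nat_lit 14) (BT.node (nat_lit 13) (BT.leaf ⟨[(nat_lit 4), (nat_lit 1),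 (nat_lit 4), (nat_lit 1)], (nat_lit 6), (nat_lit 1), (nat_lit 0), (nat_lit 3)⟩) (BT.leaf ⟨[(nat_lit 3), (nat_lit 2), (nat_lit 3), (nat_lit 2), (nat_lit 3), (nat_lit 2)], (nat_lit 7), (nat_lit 1), (nat_lit 0), (nat_lit 3)⟩)) (BT.node (nat_lit 15) (BT.leaf ⟨[(nat_lit 3), (nat_lit 1), (nat_lit 3), (nat_lit 1)], (nat_lit 5), (nat_lit 1), (nat_lit 0), (nat_lit 3)⟩) (BT.leaf ⟨[(nat_lit 2), (nat_lit 1), (nat_lit 2), (nat_lit 1), (nat_lit 2), (nat_lit 1)], (nat_lit 4), (nat_lit 1), (nat_lit 0), (nat_lit 3)⟩)))))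
noncomputable def e7_hcs : List CW := [⟨[(nat_lit 1)], (nat_lit 0), (nat_lit 0), (nat_lit 0), (nat_lit 0)⟩, ⟨[(nat_lit 2)], (nat_lit 1), (nat_lit 0), (nat_lit 0), (nat_lit 0)⟩, ⟨[(nat_lit 3)], (nat_lit 2), (nat_lit 0), (nat_lit 0), (nat_lit 0)⟩, ⟨[(nat_lit 1)], (nat_lit 3), (nat_lit 0), (nat_lit 0), (nat_lit 0)⟩, ⟨[(nat_lit 2)], (nat_lit 4), (nat_lit 0), (nat_lit 0), (nat_lit 0)⟩, ⟨[(nat_lit 3)], (nat_lit 5), (nat_lit 0), (nat_lit 0), (nat_lit 0)⟩]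
noncomputable def e7_H (x j : Nat) : Bx (Nat → Nat → Nat) := mkH e7_L e7_pb.1 e7_e.get (lmap CW.w e7_hcs) (nat_lit 5) (nat_lit 6) (nat_lit 5) (nat_lit 8) (nat_lit 256) (nat_lit 511) x (e7_rots.get j)
noncomputable def e7_F (x b : Nat) : Bool := blkOK e7_H e7_ch (nat_lit 6) (nat_lit 8) (nat_lit 32) (nat_lit 8) (nat_lit 255) (nat_lit 11) (nat_lit 2047) x b

theorem e7_k0_0 : allFrom (e7_F (nat_lit 0)) (nat_lit 0) (nat_lit 4) = true := by decide +kernel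
theorem e7_k1_0 : allFrom (e7_F (nat_lit 1)) (nat_lit 0) (nat_lit 4) = true := by decide +kernel
theorem e7_k2_0 : allFrom (e7_F (nat_lit 2)) (nat_lit 0) (nat_lit 4) = true := by decide +kernel
theorem e7_k3_0 : allFrom (e7_F (nat_lit 3)) (nat_lit 0) (nat_lit 4) = true := by decide +kernel
theorem e7_k4_0 : allFrom (e7_F (nat_lit 4)) (nat_lit 0) (nat_lit 4) = true := by decide +kernel

noncomputable def e8_c0 : BT (Bx Nat) := (BT.leaf (Bx.mk (nat_lit 0x0)))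
noncomputable def e8_c1 : BT (Bx Nat) := (BT.leaf (Bx.mk (nat_lit 0xa95a93a91c38a8ec37a8cc368eba89c348e8c32690a85c2f68da838e4c2a686c27a81c22000)))
noncomputable def e8_c2 : BT (Bx Nat) := (BT.leaf (Bx.mk (nat_lit 0x4b64b4718ab0717aad4afaabc35712aa8c33aa6c31907aa4c2e6aac2caa2c29aa1c25c23000)))
noncomputable def e8_c3 : BT (Bx Nat) := (BT.leaf (Bx.mk (nat_lit 0x5572d84d24d34cf73575692caca754929ac76d1ac5c306ceac3c2dac2c2bac1c28c26c24000)))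
noncomputable def e8_p : BT (Bx Nat) := (BT.leaf (Bx.mk (nat_lit 0x3541b306c41b00a3818d0a3018b0a2836905a02670d982650d94144090c34305083420884321088410000000)))
noncomputable def e8_e : BT Nat := BT.leaf (nat_lit 0)
noncomputable def e8_cols : List (BT (Bx Nat)) := [e8_c0, e8_c1, e8_c2, e8_c3]
noncomputable def e8_ch (x j : Nat) : Bx Nat := chunkG e8_cols (nat_lit 1) x j
noncomputable def e8_L (x : Nat) : Bx (Nat → Nat) := lookG e8_ch (nat_lit 8) (nat_lit 255) (nat_lit 12) (nat_lit 4095) x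
noncomputable def e8_pc (_ j : Nat) : Bx Nat := e8_p.get j
noncomputable def e8_pb : Bx (Nat → Nat) := lookG e8_pc (nat_lit 8) (nat_lit 255) (nat_lit 14) (nat_lit 16383) (nat_lit 0)
noncomputable def e8_rots : BT CW := (BT.node (nat_lit 5) (BT.node (nat_lit 2) (BT.node (nat_lit 1) (BT.leaf ⟨[], (nat_lit 1000000), (nat_lit 0), (nat_lit 0), (nat_lit 0)⟩) (BT.leaf ⟨[], (nat_lit 1000000), (nat_lit 0), (nat_lit 0), (nat_lit 1)⟩)) (BT.node (nat_lit 3) (BT.leaf ⟨[], (nat_lit 1000000), (nat_lit 0), (nat_lit 0), (nat_lit 2)⟩) (BT.node (nat_lit 4) (BT.leaf ⟨[(nat_lit 1), (nat_lit 1)], (nat_lit 0), (nat_lit 0), (nat_lit 0), (nat_lit 3)⟩) (BT.leaf ⟨[(nat_lit 2), (nat_lit 2)], (nat_lit 1), (nat_lit 0), (nat_lit 0), (nat_lit 3)⟩)))) (BT.node (nat_lit 7) (BT.node (nat_lit 6) (BT.leaf ⟨[(nat_lit 3), (nat_lit 3)], (nat_lit 2), (nat_lit 0), (nat_lit 0), (nat_lit 3)⟩) (BT.leaf ⟨[(nat_lit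 1), (nat_lit 3), (nat_lit 1), (nat_lit 3)], (nat_lit 4), (nat_lit 0), (nat_lit 0), (nat_lit 3)⟩)) (BT.node (nat_lit 8) (BT.leaf ⟨[(nat_lit 2), (nat_lit 1), (nat_lit 2), (nat_lit 1), (nat_lit 2), (nat_lit 1)], (nat_lit 3), (nat_lit 1), (nat_lit 0), (nat_lit 3)⟩) (BT.node (nat_lit 9) (BT.leaf ⟨[(nat_lit 3), (nat_lit 2), (nat_lit 3), (nat_lit 2), (nat_lit 3), (nat_lit 2)], (nat_lit 5), (nat_lit 1), (nat_lit 0), (nat_lit 3)⟩) (BT.leaf ⟨[(nat_lit 3), (nat_lit 1), (nat_lit 3), (nat_lit 1)], (nat_lit 4), (nat_lit 1), (nat_lit 0), (nat_lit 3)⟩)))))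
noncomputable def e8_hcs : List CW := []
noncomputable def e8_H (x j : Nat) : Bx (Nat → Nat → Nat) := mkH e8_L e8_pb.1 e8_e.get (lmap CW.w e8_hcs) (nat_lit 24) (nat_lit 25) (nat_lit 4) (nat_lit 32) (nat_lit 512) (nat_lit 2047) x (e8_rots.get j)
noncomputable def e8_F (x b : Nat) : Bool := blkOK e8_H e8_ch (nat_lit 25) (nat_lit 32) (nat_lit 16) (nat_lit 8) (nat_lit 255) (nat_lit 12) (nat_lit 4095) x b

theorem e8_k0_0 : allFrom (e8_F (nat_lit 0)) (nat_lit 0) (nat_lit 4) = true := by decide +kernel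
theorem e8_k1_0 : allFrom (e8_F (nat_lit 1)) (nat_lit 0) (nat_lit 4) = true := by decide +kernel
theorem e8_k2_0 : allFrom (e8_F (nat_lit 2)) (nat_lit 0) (nat_lit 4) = true := by decide +kernel
theorem e8_k3_0 : allFrom (e8_F (nat_lit 3)) (nat_lit 0) (nat_lit 4) = true := by decide +kernel

noncomputable def e9_c0 : BT (Bx Nat) := (BT.leaf (Bx.mk (nat_lit 0x0)))
noncomputable def e9_c1 : BT (Bx Nat) := (BT.leaf (Bx.mk (nat_lit 0x91c600)))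
noncomputable def e9_c2 : BT (Bx Nat) := (BT.leaf (Bx.mk (nat_lit 0x8d5600)))
noncomputable def e9_c3 : BT (Bx Nat) := (BT.leaf (Bx.mk (nat_lit 0x8d5a00)))
noncomputable def e9_c4 : BT (Bx Nat) := (BT.leaf (Bx.mk (nat_lit 0x8d5e00)))
noncomputable def e9_c5 : BT (Bx Nat) := (BT.leaf (Bx.mk (nat_lit 0x8d6200)))
noncomputable def e9_c6 : BT (Bx Nat) := (BT.leaf (Bx.mk (nat_lit 0x8d6600)))
noncomputable def e9_c7 : BT (Bx Nat) := (BT.leaf (Bx.mk (nat_lit 0x8d6a00)))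
noncomputable def e9_c8 : BT (Bx Nat) := (BT.leaf (Bx.mk (nat_lit 0x8d6e00)))
noncomputable def e9_c9 : BT (Bx Nat) := (BT.leaf (Bx.mk (nat_lit 0x8d7200)))
noncomputable def e9_c10 : BT (Bx Nat) := (BT.leaf (Bx.mk (nat_lit 0x8d7600)))
noncomputable def e9_c11 : BT (Bx Nat) := (BT.leaf (Bx.mk (nat_lit 0x8d7a00)))
noncomputable def e9_p : BT (Bx Nat) := (BT.leaf (Bx.mk (nat_lit 0x5040000)))
noncomputable def e9_e0 : BT Nat := (BT.node (nat_lit 135) (BT.node (nat_lit 132) (BT.node (nat_lit 131) (BT.leaf (nat_lit 6)) (BT.leaf (nat_lit 262150))) (BT.node (nat_lit 133) (BT.leaf (nat_lit 524294)) (BT.node (nat_lit 134) (BT.leaf (nat_lit 786438)) (BT.leaf (nat_lit 1048582))))) (BT.node (nat_lit 137) (BT.node (nat_lit 136) (BT.leaf (nat_lit 1310726)) (BT.leaf (nat_lit 1572870))) (BT.node (nat_lit 138) (BT.leaf (nat_lit 1835014)) (BT.node (nat_lit 139) (BT.leaf (nat_lit 2097158))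 (BT.leaf (nat_lit 2359302))))))
noncomputable def e9_e : BT Nat := e9_e0
noncomputable def e9_cols : List (BT (Bx Nat)) := [e9_c0, e9_c1, e9_c2, e9_c3, e9_c4, e9_c5, e9_c6, e9_c7, e9_c8, e9_c9, e9_c10, e9_c11]
noncomputable def e9_ch (x j : Nat) : Bx Nat := chunkG e9_cols (nat_lit 1) x j
noncomputable def e9_L (x : Nat) : Bx (Nat → Nat) := lookG e9_ch (nat_lit 8) (nat_lit 255) (nat_lit 8) (nat_lit 255) x
noncomputable def e9_pc (_ j : Nat) : Bx Nat := e9_p.get j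
noncomputable def e9_pb : Bx (Nat → Nat) := lookG e9_pc (nat_lit 8) (nat_lit 255) (nat_lit 9) (nat_lit 511) (nat_lit 0)
noncomputable def e9_rots : BT CW := (BT.node (nat_lit 7) (BT.node (nat_lit 3) (BT.node (nat_lit 1) (BT.leaf ⟨[], (nat_lit 1000000), (nat_lit 0), (nat_lit 0), (nat_lit 0)⟩) (BT.node (nat_lit 2) (BT.leaf ⟨[], (nat_lit 1000000), (nat_lit 0), (nat_lit 0), (nat_lit 1)⟩) (BT.leaf ⟨[], (nat_lit 1000000), (nat_lit 0), (nat_lit 0), (nat_lit 2)⟩))) (BT.node (nat_lit 5) (BT.node (nat_lit 4) (BT.leaf ⟨[(nat_lit 1), (nat_lit 1)], (nat_lit 0), (nat_lit 0), (nat_lit 0), (nat_lit 3)⟩) (BT.leaf ⟨[(nat_lit 2), (nat_lit 2)], (nat_lit 1), (nat_lit 0), (nat_lit 0), (nat_lit 3)⟩)) (BT.node (nat_lit 6) (BT.leaf ⟨[(nat_lit 3), (nat_lit 3)], (nat_lit 2), (nat_lit 0), (nat_lit 0), (nat_lit 3)⟩) (BT.leaf ⟨[(nat_lit 4), (nat_lit 4)], (nat_lit 3), (nat_lit 0), (nat_lit 0), (nat_lit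 3)⟩)))) (BT.node (nat_lit 10) (BT.node (nat_lit 8) (BT.leaf ⟨[(nat_lit 5), (nat_lit 5)], (nat_lit 4), (nat_lit 0), (nat_lit 0), (nat_lit 3)⟩) (BT.node (nat_lit 9) (BT.leaf ⟨[(nat_lit 6), (nat_lit 6)], (nat_lit 5), (nat_lit 0), (nat_lit 0), (nat_lit 3)⟩) (BT.leaf ⟨[(nat_lit 7), (nat_lit 7)], (nat_lit 7), (nat_lit 0), (nat_lit 0), (nat_lit 3)⟩))) (BT.node (nat_lit 12) (BT.node (nat_lit 11) (BT.leaf ⟨[(nat_lit 8), (nat_lit 8)], (nat_lit 8), (nat_lit 0), (nat_lit 0), (nat_lit 3)⟩) (BT.leaf ⟨[(nat_lit 9), (nat_lit 9)], (nat_lit 9), (nat_lit 0), (nat_lit 0), (nat_lit 3)⟩)) (BT.node (nat_lit 13) (BT.leaf ⟨[(nat_lit 10), (nat_lit 10)], (nat_lit 6), (nat_lit 0), (nat_lit 0), (nat_lit 3)⟩) (BT.leaf ⟨[(nat_lit 11), (nat_lit 11)], (nat_lit 10), (nat_lit 0), (nat_lit 0), (nat_lit 3)⟩)))))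
noncomputable def e9_hcs : List CW := [⟨[(nat_lit 1), (nat_lit 2)], (nat_lit 0), (nat_lit 0), (nat_lit 0), (nat_lit 0)⟩, ⟨[(nat_lit 1), (nat_lit 3)], (nat_lit 1), (nat_lit 0), (nat_lit 0), (nat_lit 0)⟩, ⟨[(nat_lit 1), (nat_lit 4)], (nat_lit 2), (nat_lit 0), (nat_lit 0), (nat_lit 0)⟩, ⟨[(nat_lit 1), (nat_lit 5)], (nat_lit 3), (nat_lit 0), (nat_lit 0), (nat_lit 0)⟩, ⟨[(nat_lit 1), (nat_lit 6)], (nat_lit 4), (nat_lit 0), (nat_lit 0), (nat_lit 0)⟩, ⟨[(nat_lit 1), (nat_lit 7)], (nat_lit 5), (nat_lit 0), (nat_lit 0), (nat_lit 0)⟩, ⟨[(nat_lit 1), (nat_lit 8)], (nat_lit 6), (nat_lit 0), (nat_lit 0), (nat_lit 0)⟩, ⟨[(nat_lit 1), (nat_lit 9)], (nat_lit 7), (nat_lit 0), (nat_lit 0), (nat_lit 0)⟩, ⟨[(nat_lit 1), (nat_lit 10)], (nat_lit 8), (nat_lit 0), (nat_lit 0), (nat_lit 0)⟩, ⟨[(nat_lit 1), (nat_lit 11)], (nat_lit 9), (nat_lit 0), (nat_lit 0), (nat_lit 0)⟩, ⟨[(nat_lit 2), (nat_lit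 1)], (nat_lit 10), (nat_lit 0), (nat_lit 0), (nat_lit 0)⟩, ⟨[(nat_lit 3), (nat_lit 1)], (nat_lit 11), (nat_lit 0), (nat_lit 0), (nat_lit 0)⟩, ⟨[(nat_lit 4), (nat_lit 1)], (nat_lit 12), (nat_lit 0), (nat_lit 0), (nat_lit 0)⟩, ⟨[(nat_lit 5), (nat_lit 1)], (nat_lit 13), (nat_lit 0), (nat_lit 0), (nat_lit 0)⟩, ⟨[(nat_lit 6), (nat_lit 1)], (nat_lit 14), (nat_lit 0), (nat_lit 0), (nat_lit 0)⟩, ⟨[(nat_lit 7), (nat_lit 1)], (nat_lit 15), (nat_lit 0), (nat_lit 0), (nat_lit 0)⟩, ⟨[(nat_lit 8), (nat_lit 1)], (nat_lit 16), (nat_lit 0), (nat_lit 0), (nat_lit 0)⟩, ⟨[(nat_lit 9), (nat_lit 1)], (nat_lit 17), (nat_lit 0), (nat_lit 0), (nat_lit 0)⟩, ⟨[(nat_lit 10), (nat_lit 1)], (nat_lit 18), (nat_lit 0), (nat_lit 0), (nat_lit 0)⟩, ⟨[(nat_lit 11), (nat_lit 1)], (nat_lit 19), (nat_lit 0), (nat_lit 0), (nat_lit 0)⟩]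
noncomputable def e9_H (x j : Nat) : Bx (Nat → Nat → Nat) := mkH e9_L e9_pb.1 e9_e.get (lmap CW.w e9_hcs) (nat_lit 2) (nat_lit 3) (nat_lit 12) (nat_lit 4) (nat_lit 64) (nat_lit 255) x (e9_rots.get j)
noncomputable def e9_F (x b : Nat) : Bool := blkOK e9_H e9_ch (nat_lit 3) (nat_lit 4) (nat_lit 16) (nat_lit 8) (nat_lit 255) (nat_lit 8) (nat_lit 255) x b

theorem e9_k0_0 : allFrom (e9_F (nat_lit 0)) (nat_lit 0) (nat_lit 4) = true := by decide +kernel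
theorem e9_k1_0 : allFrom (e9_F (nat_lit 1)) (nat_lit 0) (nat_lit 4) = true := by decide +kernel
theorem e9_k2_0 : allFrom (e9_F (nat_lit 2)) (nat_lit 0) (nat_lit 4) = true := by decide +kernel
theorem e9_k3_0 : allFrom (e9_F (nat_lit 3)) (nat_lit 0) (nat_lit 4) = true := by decide +kernel
theorem e9_k4_0 : allFrom (e9_F (nat_lit 4)) (nat_lit 0) (nat_lit 4) = true := by decide +kernel
theorem e9_k5_0 : allFrom (e9_F (nat_lit 5)) (nat_lit 0) (nat_lit 4) = true := by decide +kernel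
theorem e9_k6_0 : allFrom (e9_F (nat_lit 6)) (nat_lit 0) (nat_lit 4) = true := by decide +kernel
theorem e9_k7_0 : allFrom (e9_F (nat_lit 7)) (nat_lit 0) (nat_lit 4) = true := by decide +kernel
theorem e9_k8_0 : allFrom (e9_F (nat_lit 8)) (nat_lit 0) (nat_lit 4) = true := by decide +kernel
theorem e9_k9_0 : allFrom (e9_F (nat_lit 9)) (nat_lit 0) (nat_lit 4) = true := by decide +kernel
theorem e9_k10_0 : allFrom (e9_F (nat_lit 10)) (nat_lit 0) (nat_lit 4) = true := by decide +kernel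
theorem e9_k11_0 : allFrom (e9_F (nat_lit 11)) (nat_lit 0) (nat_lit 4) = true := by decide +kernel

noncomputable def e0_c0 : BT (Bx Nat) := (BT.leaf (Bx.mk (nat_lit 0x5ea5b52452000004c1d666a5500000341c356441000006ea4c301ca181ca501c9381ca381c96ea485a43200000181af381ad5a42a00000541ba5c1ba76a39141b81c1b8341b73c1b83c1b7541b65c1b85c1b676a355018c7240b1018a301895018872407000009a3824c196601966c1950c194201942c19340194401934c1926019460193601926c191701967019470193701927d0908c1968c1958c1948c1938c1928c1918c1900000000000a418e4818168181081812818148181681817a4019418e90181941814418264182041822418244182641827418299083a8f0390182000000000000000)))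
noncomputable def e0_c1 : BT (Bx Nat) := (BT.leaf (Bx.mk (nat_lit 0x94a59000009095b00000000009cad29ca500000000000989560000098955000000000000000a4a4600000a4b43a4ac1a4a3e00000a094c0000000000a094a00000a09490000000000a0948000000000000000accb2aca30acbafacb2dacaaaaca2600000b890da893a00000a8939a893800000a89370000000000a8936000000000000000a8935000000000000000000000000000000000000000000000000000000000000000000000000000b4d0cb4c8bb4c0ab4b89b4b08b4a87b4a06b4985b4884bc0b3b0916b0915b0914b0913b0912b091100000b090fb090ebc097b8201bc08200000)))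
noncomputable def e0_c2 : BT (Bx Nat) := (BT.leaf (Bx.mk (nat_lit 0xa620e0000000000000000000000000000000000000000000000000000000000000000000000000000000000000000000000000000000000000000000000000000000000ace84000000000000000000000000000000000000000000000a0eb3b82820000000000000000000000000000000000000000b0e18b8281bc10dbc10300000)))
noncomputable def e0_c3 : BT (Bx Nat) := (BT.leaf (Bx.mk (nat_lit 0x6a9dc0000072ad9729d86d1db000007a9d37ac527aad07a9cd00000751d600000751d500000000000000082ac6829c482e4382c4182abe829bb7d1cc00000000007d1ca000007d1c900000000007d1c800000000000000089932891308962f8942d892aa8912688fa19e30d851ba00000851b9851b800000851b70000000000851b6000000000000000851b50000000000000000000000000a5a8ca590ba578aa5609a5408a5287a5106a4f85000000000000000000000000000000000000000000000000000000000000a11a0a119fa119ea119da119ca119ba119a00000b8301bc098bc10ebc10400000)))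
noncomputable def e0_c4 : BT (Bx Nat) := (BT.leaf (Bx.mk (nat_lit 0x6105c64ddd72b59690586d05b6cdda710537acd27ab507104d74dd7750560000075055000000000074dd482b467904482ec382cc182b3e7903b7d04c000007cdcb7d04a000007d04900000000007d04800000000007cdc7899b289230896af894ad8932a8922681021000008503a0000085039850380000085037000000000085036000000000000000850350000000000000000000084db4a5b0ca598ba580aa5689a5488a5307a52069d005b8d83000000000000000000000000000000000000000000000b8382a22b3a1020a101fa101ea101da101ca101ba101aa0d99b838100000b440eb440400000)))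
noncomputable def e0_c5 : BT (Bx Nat) := (BT.leaf (Bx.mk (nat_lit 0xb95d9bc0dd00000bc0dcb95d0000007ad52bc0da00000b95c60000000000bc0d80000000000b95bebc0d70000082f4382d41bc0d400000bc0d300000b95b07d5ca00000000000000000000bc0cd0000000000b95a689a32bc0cb8972f8952d893aabc0c700000000000000000000bc0c4855b800000855b7000000000000000000000000000000bc0bb00000000000000000000b958695b8c95a0b9588a95709955089538700000000000000000000000008818b00000000000000088187bc0b4000000000000000915a0000009159e9159d9159c00000bc0a1b848100000bc099bc10fbc10500000)))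
noncomputable def e0_c6 : BT (Bx Nat) := (BT.leaf (Bx.mk (nat_lit 0xb9cd600000b9cd20000000000bc0dbb9cc90000000000bc0d900000b9cc1000000000000000b9cba0000065c43bc0d5b9cb600000b9cb2000000000061cca00000bc0d00000000000b9caa000000000000000bc0ccb9c956e5af6e52dbc0c8b9c910000000000bc0c600000b9c8b69cb80000069cb70000000000bc0be000000000000000b9c87b5e0cb5d8ab5d09b5c08000000000000000000000000000000000000000000000000000000000000bc0b9000000000000000bc0b5b8502000000000000000b1ca5bc0b0b1ca4b1ca3b1ca2bc0a6b85010000000000bc09abc110bc10600000)))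
noncomputable def e0_c7 : BT (Bx Nat) := (BT.leaf (Bx.mk (nat_lit 0x5f1d90000000000000000000000000671d00000000000b9f4300000000000000000000000000000000000bc0d6000006e4be00000000000000000000bc0d200000b9f2d00000bc0ce00000adeaf0000000000000000000000000bc0c900000724a60000000000000000000000000a9f3d00000bc0c10000000000b9f08b5f8ab5e89bc0bc0000000000000000000000000000000000000000000000000000000000000000000000000000000000000000000000000000bc0b600000000000000000000000000000000000b1f29b1f28bc0aab8581000000000000000bc09bbc111bc10700000)))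
noncomputable def e0_c8 : BT (Bx Nat) := (BT.leaf (Bx.mk (nat_lit 0x53159000004e0db00000000005add2571500000000000560d600000520d50000000000000000000000000000005edc15abbe00000000000000000000ba0afbc0d15a0c9bc0cf00000560c800000b66aa000000000000000bc0ca0000000000000000000000000000000000000000bc0c300000ba089b600abc0bfb20bc00000000000000000000000000000000000000000000000000000000000000000000000000000000000000000000000000000000000000bc0b70000000000000000000000000000000000000000b20acbc0adb8601bc0a7bc0a20000000000bc09cbc112bc10800000)))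
noncomputable def e0_c9 : BT (Bx Nat) := (BT.leaf (Bx.mk (nat_lit 0x37252000000000000000321560000000000ae743af04100000000000000000000000000000000000000000000000000aa14f00000aa14e00000b672d000000000000000000000000000000000000000000000000000000000000000000000000000ba10abc0c2b213fbc0c00000000000bc0bd0000000000000000000000000000000000000000000000000000000000000000000000000000000000000000000000000000bc0b8000000000000000000000000000000000000000000000bc0afb8681bc0abbc0a8bc0a30000000000bc09dbc113bc10900000)))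
noncomputable def e0_c10 : BT (Bx Nat) := (BT.leaf (Bx.mk (nat_lit 0xaf0c300000000000000000000000000000000000000000000000000000000000000000aa851b67af000000000000000000000000000000000000000000000000000000000000000000000000000000000000000000b2842000000000000000000000000000000000000000000000000000000000000000000000000000000000000000000000000000000000000000000000000000000000000000000000000000000000000000000000000000000000000b8701bc0aebc0acbc0a9bc0a40000000000bc09ebc114bc10a00000)))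
noncomputable def e0_c11 : BT (Bx Nat) := (BT.leaf (Bx.mk (nat_lit 0x6e64600000000000000000000000000000000000000000000000000000000000000000000000000000000000000000072630000000000000000000000000000000ba18cbc0c50000000000000000000000000000000000000000000000000000000000000000000000000000000000000000000000000000000000000000000000000000000000bc0ba000000000000000000000000000000000000000000000bc0b2b878100000000000000000000000000000000000bc09fbc115bc10b00000)))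
noncomputable def e0_c12 : BT (Bx Nat) := (BT.leaf (Bx.mk (nat_lit 0x5afc600000000000000000000000005694cb68b2000000000000000000000000000000000000000000000000000000000000000000000000000000000000000000b294500000000000000000000000000000000000000000000000000000000000000000000000000000000000000000000000000000000000000000000000000000000000000000000000000000000000000000000000000000000000000000b8801bc0b100000000000000000000bc0a50000000000bc0a0bc116bc10c00000)))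
noncomputable def e0_p : BT (Bx Nat) := (BT.leaf (Bx.mk (nat_lit 0xf6c5d645d586d545b486b405b305b287b246b205918590c79088904690088fc78f858e868e458e088dc78d868d456c866c4b6c056bc86b896b476b096ac86a866a4969c76985658b6546650964c86487644664056341430b42cc42c64289424a4248420a4209420741ca41c941c841c6418c418a41894188418540cc40cb40ca40c940c840c740c640c540c340c1408c408b408a4089408840874086408540834082204c204b204a2049204820472046204520432042204100000000)))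
noncomputable def e0_e0 : BT Nat := (BT.node (nat_lit 2560) (BT.node (nat_lit 1344) (BT.node (nat_lit 832) (BT.node (nat_lit 576) (BT.node (nat_lit 448) (BT.node (nat_lit 384) (BT.leaf (nat_lit 3337)) (BT.leaf (nat_lit 4101))) (BT.node (nat_lit 512) (BT.leaf (nat_lit 9733)) (BT.leaf (nat_lit 10757)))) (BT.node (nat_lit 704) (BT.node (nat_lit 640) (BT.leaf (nat_lit 11525)) (BT.leaf (nat_lit 12037))) (BT.node (nat_lit 768) (BT.leaf (nat_lit 12293)) (BT.leaf (nat_lit 12805))))) (BT.node (nat_lit 1093) (BT.node (nat_lit 960) (BT.node (nat_lit 896) (BT.leaf (nat_lit 13061)) (BT.leaf (nat_lit 13065))) (BT.node (nat_lit 1088) (BT.leaf (nat_lit 1285)) (BT.leaf (nat_lit 13597)))) (BT.node (nat_lit 1216) (BT.node (nat_lit 1152) (BT.leaf (nat_lit 108)) (BT.leaf (nat_lit 15905))) (BT.node (nat_lit 1280) (BT.leaf (nat_lit 16677)) (BT.leaf (nat_lit 17193)))))) (BT.node (nat_lit 1920)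 (BT.node (nat_lit 1664) (BT.node (nat_lit 1408) (BT.node (nat_lit 1349) (BT.leaf (nat_lit 14637)) (BT.leaf (nat_lit 124))) (BT.node (nat_lit 1472) (BT.leaf (nat_lit 17969)) (BT.leaf (nat_lit 1029)))) (BT.node (nat_lit 1792) (BT.node (nat_lit 1728) (BT.leaf (nat_lit 793)) (BT.leaf (nat_lit 797))) (BT.node (nat_lit 1856) (BT.leaf (nat_lit 801)) (BT.leaf (nat_lit 805))))) (BT.node (nat_lit 2240) (BT.node (nat_lit 2048) (BT.node (nat_lit 1984) (BT.leaf (nat_lit 809)) (BT.leaf (nat_lit 813))) (BT.node (nat_lit 2176) (BT.leaf (nat_lit 817)) (BT.leaf (nat_lit 1569)))) (BT.node (nat_lit 2368) (BT.node (nat_lit 2304) (BT.leaf (nat_lit 1573)) (BT.leaf (nat_lit 1577))) (BT.node (nat_lit 2432) (BT.leaf (nat_lit 1585)) (BT.node (nat_lit 2496) (BT.leaf (nat_lit 13573)) (BT.leaf (nat_lit 1825)))))))) (BT.node (nat_lit 3968) (BT.node (nat_lit 3072) (BT.node (nat_lit 2816) (BT.node (nat_lit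 2688) (BT.node (nat_lit 2624) (BT.leaf (nat_lit 1829)) (BT.leaf (nat_lit 1833))) (BT.node (nat_lit 2752) (BT.leaf (nat_lit 15877)) (BT.leaf (nat_lit 2085)))) (BT.node (nat_lit 2944) (BT.node (nat_lit 2880) (BT.leaf (nat_lit 2089)) (BT.leaf (nat_lit 16645))) (BT.node (nat_lit 3008) (BT.leaf (nat_lit 2345)) (BT.leaf (nat_lit 17157))))) (BT.node (nat_lit 3520) (BT.node (nat_lit 3200) (BT.node (nat_lit 3136) (BT.leaf (nat_lit 14597)) (BT.leaf (nat_lit 2865))) (BT.node (nat_lit 3456) (BT.leaf (nat_lit 17925)) (BT.leaf (nat_lit 18461)))) (BT.node (nat_lit 3712) (BT.node (nat_lit 3584) (BT.leaf (nat_lit 20513)) (BT.leaf (nat_lit 21029))) (BT.node (nat_lit 3840) (BT.leaf (nat_lit 19501)) (BT.node (nat_lit 3904) (BT.leaf (nat_lit 10013)) (BT.leaf (nat_lit 10533))))))) (BT.node (nat_lit 4672) (BT.node (nat_lit 4224) (BT.node (nat_lit 4096) (BT.node (nat_lit 4032) (BT.leaf (nat_lit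 18437)) (BT.leaf (nat_lit 11041))) (BT.node (nat_lit 4160) (BT.leaf (nat_lit 11301)) (BT.leaf (nat_lit 20485)))) (BT.node (nat_lit 4416) (BT.node (nat_lit 4288) (BT.leaf (nat_lit 11813)) (BT.leaf (nat_lit 20997))) (BT.node (nat_lit 4480) (BT.leaf (nat_lit 12589)) (BT.leaf (nat_lit 19461))))) (BT.node (nat_lit 5120) (BT.node (nat_lit 4992) (BT.node (nat_lit 4736) (BT.leaf (nat_lit 21789)) (BT.leaf (nat_lit 22817))) (BT.node (nat_lit 5056) (BT.leaf (nat_lit 16157)) (BT.leaf (nat_lit 16417)))) (BT.node (nat_lit 5248) (BT.node (nat_lit 5184) (BT.leaf (nat_lit 21765)) (BT.leaf (nat_lit 16929))) (BT.node (nat_lit 5504) (BT.leaf (nat_lit 22789)) (BT.node (nat_lit 5696) (BT.leaf (nat_lit 23325)) (BT.leaf (nat_lit 23301)))))))))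
noncomputable def e0_e : BT Nat := e0_e0
noncomputable def e0_cols : List (BT (Bx Nat)) := [e0_c0, e0_c1, e0_c2, e0_c3, e0_c4, e0_c5, e0_c6, e0_c7, e0_c8, e0_c9, e0_c10, e0_c11, e0_c12]
noncomputable def e0_ch (x j : Nat) : Bx Nat := chunkG e0_cols (nat_lit 1) x j
noncomputable def e0_L (x : Nat) : Bx (Nat → Nat) := lookG e0_ch (nat_lit 8) (nat_lit 255) (nat_lit 20) (nat_lit 1048575) x
noncomputable def e0_pc (_ j : Nat) : Bx Nat := e0_p.get j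
noncomputable def e0_pb : Bx (Nat → Nat) := lookG e0_pc (nat_lit 8) (nat_lit 255) (nat_lit 16) (nat_lit 65535) (nat_lit 0)
noncomputable def e0_rots : BT CW := (BT.node (nat_lit 50) (BT.node (nat_lit 25) (BT.node (nat_lit 12) (BT.node (nat_lit 6) (BT.node (nat_lit 3) (BT.node (nat_lit 1) (BT.leaf ⟨[], (nat_lit 1000000), (nat_lit 0), (nat_lit 0), (nat_lit 0)⟩) (BT.node (nat_lit 2) (BT.leaf ⟨[], (nat_lit 1000000), (nat_lit 0), (nat_lit 0), (nat_lit 1)⟩) (BT.leaf ⟨[], (nat_lit 1000000), (nat_lit 0), (nat_lit 0), (nat_lit 2)⟩))) (BT.node (nat_lit 4) (BT.leaf ⟨[(nat_lit 1), (nat_lit 1)], (nat_lit 1), (nat_lit 0), (nat_lit 0), (nat_lit 3)⟩) (BT.node (nat_lit 5) (BT.leaf ⟨[(nat_lit 2), (nat_lit 2)], (nat_lit 2), (nat_lit 0), (nat_lit 0), (nat_lit 3)⟩) (BT.leaf ⟨[(nat_lit 3), (nat_lit 3)], (nat_lit 3), (nat_lit 0), (nat_lit 0), (nat_lit 3)⟩)))) (BT.node (nat_lit 9) (BT.node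 (nat_lit 7) (BT.leaf ⟨[(nat_lit 4), (nat_lit 3)], (nat_lit 0), (nat_lit 1), (nat_lit 0), (nat_lit 3)⟩) (BT.node (nat_lit 8) (BT.leaf ⟨[(nat_lit 4), (nat_lit 4)], (nat_lit 4), (nat_lit 0), (nat_lit 0), (nat_lit 5)⟩) (BT.leaf ⟨[(nat_lit 5), (nat_lit 5)], (nat_lit 5), (nat_lit 0), (nat_lit 0), (nat_lit 3)⟩))) (BT.node (nat_lit 10) (BT.leaf ⟨[(nat_lit 6), (nat_lit 6)], (nat_lit 6), (nat_lit 0), (nat_lit 0), (nat_lit 3)⟩) (BT.node (nat_lit 11) (BT.leaf ⟨[(nat_lit 7), (nat_lit 7)], (nat_lit 7), (nat_lit 0), (nat_lit 0), (nat_lit 3)⟩) (BT.leaf ⟨[(nat_lit 8), (nat_lit 8)], (nat_lit 9), (nat_lit 0), (nat_lit 0), (nat_lit 3)⟩))))) (BT.node (nat_lit 18) (BT.node (nat_lit 15) (BT.node (nat_lit 13) (BT.leaf ⟨[(nat_lit 9), (nat_lit 9)], (nat_lit 10), (nat_lit 0), (nat_lit 0), (nat_lit 3)⟩) (BT.node (nat_lit 14) (BT.leaf ⟨[(nat_lit 10), (nat_lit 10)], (nat_lit 11), (nat_lit 0), (nat_lit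 0), (nat_lit 3)⟩) (BT.leaf ⟨[(nat_lit 11), (nat_lit 11)], (nat_lit 8), (nat_lit 0), (nat_lit 0), (nat_lit 3)⟩))) (BT.node (nat_lit 16) (BT.leaf ⟨[(nat_lit 12), (nat_lit 12)], (nat_lit 12), (nat_lit 0), (nat_lit 0), (nat_lit 3)⟩) (BT.node (nat_lit 17) (BT.leaf ⟨[(nat_lit 1), (nat_lit 3), (nat_lit 1), (nat_lit 3)], (nat_lit 14), (nat_lit 0), (nat_lit 0), (nat_lit 4)⟩) (BT.leaf ⟨[(nat_lit 1), (nat_lit 1)], (nat_lit 1), (nat_lit 0), (nat_lit 0), (nat_lit 4)⟩)))) (BT.node (nat_lit 21) (BT.node (nat_lit 19) (BT.leaf ⟨[(nat_lit 1), (nat_lit 5), (nat_lit 1), (nat_lit 5)], (nat_lit 16), (nat_lit 0), (nat_lit 0), (nat_lit 4)⟩) (BT.node (nat_lit 20) (BT.leaf ⟨[(nat_lit 1), (nat_lit 6), (nat_lit 1), (nat_lit 6)], (nat_lit 17), (nat_lit 0), (nat_lit 0), (nat_lit 4)⟩) (BT.leaf ⟨[(nat_lit 1), (nat_lit 7), (nat_lit 1), (nat_lit 7)], (nat_lit 18), (nat_lit 0), (nat_lit 0), (nat_lit 4)⟩)))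 (BT.node (nat_lit 23) (BT.node (nat_lit 22) (BT.leaf ⟨[(nat_lit 1), (nat_lit 8), (nat_lit 1), (nat_lit 8)], (nat_lit 20), (nat_lit 0), (nat_lit 0), (nat_lit 4)⟩) (BT.leaf ⟨[(nat_lit 1), (nat_lit 9), (nat_lit 1), (nat_lit 9)], (nat_lit 21), (nat_lit 0), (nat_lit 0), (nat_lit 4)⟩)) (BT.node (nat_lit 24) (BT.leaf ⟨[(nat_lit 1), (nat_lit 10), (nat_lit 1), (nat_lit 10)], (nat_lit 22), (nat_lit 0), (nat_lit 0), (nat_lit 4)⟩) (BT.leaf ⟨[(nat_lit 1), (nat_lit 11), (nat_lit 1), (nat_lit 11)], (nat_lit 19), (nat_lit 0), (nat_lit 0), (nat_lit 4)⟩)))))) (BT.node (nat_lit 37) (BT.node (nat_lit 31) (BT.node (nat_lit 28) (BT.node (nat_lit 26) (BT.leaf ⟨[(nat_lit 1), (nat_lit 12), (nat_lit 1), (nat_lit 12)], (nat_lit 23), (nat_lit 0), (nat_lit 0), (nat_lit 4)⟩) (BT.node (nat_lit 27) (BT.leaf ⟨[(nat_lit 4), (nat_lit 3)], (nat_lit 0), (nat_lit 1), (nat_lit 0), (nat_lit 4)⟩) (BT.leaf ⟨[(nat_lit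 2), (nat_lit 4), (nat_lit 2), (nat_lit 4)], (nat_lit 25), (nat_lit 0), (nat_lit 0), (nat_lit 4)⟩))) (BT.node (nat_lit 29) (BT.leaf ⟨[(nat_lit 2), (nat_lit 2)], (nat_lit 2), (nat_lit 0), (nat_lit 0), (nat_lit 4)⟩) (BT.node (nat_lit 30) (BT.leaf ⟨[(nat_lit 0), (nat_lit 3), (nat_lit 2), (nat_lit 3), (nat_lit 2), (nat_lit 3), (nat_lit 2)], (nat_lit 24), (nat_lit 1), (nat_lit 1), (nat_lit 4)⟩) (BT.leaf ⟨[(nat_lit 3), (nat_lit 5), (nat_lit 3), (nat_lit 5)], (nat_lit 35), (nat_lit 0), (nat_lit 0), (nat_lit 5)⟩)))) (BT.node (nat_lit 34) (BT.node (nat_lit 32) (BT.leaf ⟨[(nat_lit 4), (nat_lit 4)], (nat_lit 4), (nat_lit 0), (nat_lit 0), (nat_lit 4)⟩) (BT.node (nat_lit 33) (BT.leaf ⟨[(nat_lit 0), (nat_lit 5), (nat_lit 4), (nat_lit 5), (nat_lit 4), (nat_lit 5), (nat_lit 4)], (nat_lit 43), (nat_lit 1), (nat_lit 1), (nat_lit 5)⟩) (BT.leaf ⟨[(nat_lit 3), (nat_lit 6), (nat_lit 3), (nat_lit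 6)], (nat_lit 36), (nat_lit 0), (nat_lit 0), (nat_lit 5)⟩))) (BT.node (nat_lit 35) (BT.leaf ⟨[(nat_lit 3), (nat_lit 3)], (nat_lit 3), (nat_lit 0), (nat_lit 0), (nat_lit 4)⟩) (BT.node (nat_lit 36) (BT.leaf ⟨[(nat_lit 4), (nat_lit 6), (nat_lit 4), (nat_lit 6)], (nat_lit 44), (nat_lit 0), (nat_lit 0), (nat_lit 5)⟩) (BT.leaf ⟨[(nat_lit 3), (nat_lit 7), (nat_lit 3), (nat_lit 7)], (nat_lit 37), (nat_lit 0), (nat_lit 0), (nat_lit 5)⟩))))) (BT.node (nat_lit 43) (BT.node (nat_lit 40) (BT.node (nat_lit 38) (BT.leaf ⟨[(nat_lit 4), (nat_lit 7), (nat_lit 4), (nat_lit 7)], (nat_lit 45), (nat_lit 0), (nat_lit 0), (nat_lit 5)⟩) (BT.node (nat_lit 39) (BT.leaf ⟨[(nat_lit 5), (nat_lit 7), (nat_lit 5), (nat_lit 7)], (nat_lit 52), (nat_lit 0), (nat_lit 0), (nat_lit 5)⟩) (BT.leaf ⟨[(nat_lit 3), (nat_lit 8), (nat_lit 3), (nat_lit 8)], (nat_lit 39), (nat_lit 0), (nat_lit 0), (nat_lit 5)⟩)))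 (BT.node (nat_lit 41) (BT.leaf ⟨[(nat_lit 4), (nat_lit 8), (nat_lit 4), (nat_lit 8)], (nat_lit 47), (nat_lit 0), (nat_lit 0), (nat_lit 5)⟩) (BT.node (nat_lit 42) (BT.leaf ⟨[(nat_lit 5), (nat_lit 8), (nat_lit 5), (nat_lit 8)], (nat_lit 54), (nat_lit 0), (nat_lit 0), (nat_lit 5)⟩) (BT.leaf ⟨[(nat_lit 5), (nat_lit 5)], (nat_lit 5), (nat_lit 0), (nat_lit 0), (nat_lit 4)⟩)))) (BT.node (nat_lit 46) (BT.node (nat_lit 44) (BT.leaf ⟨[(nat_lit 3), (nat_lit 9), (nat_lit 3), (nat_lit 9)], (nat_lit 40), (nat_lit 0), (nat_lit 0), (nat_lit 5)⟩) (BT.node (nat_lit 45) (BT.leaf ⟨[(nat_lit 4), (nat_lit 9), (nat_lit 4), (nat_lit 9)], (nat_lit 48), (nat_lit 0), (nat_lit 0), (nat_lit 5)⟩) (BT.leaf ⟨[(nat_lit 5), (nat_lit 9), (nat_lit 5), (nat_lit 9)], (nat_lit 55), (nat_lit 0), (nat_lit 0), (nat_lit 5)⟩))) (BT.node (nat_lit 48) (BT.node (nat_lit 47) (BT.leaf ⟨[(nat_lit 3), (nat_lit 10), (nat_lit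 3), (nat_lit 10)], (nat_lit 41), (nat_lit 0), (nat_lit 0), (nat_lit 5)⟩) (BT.leaf ⟨[(nat_lit 4), (nat_lit 10), (nat_lit 4), (nat_lit 10)], (nat_lit 49), (nat_lit 0), (nat_lit 0), (nat_lit 5)⟩)) (BT.node (nat_lit 49) (BT.leaf ⟨[(nat_lit 5), (nat_lit 10), (nat_lit 5), (nat_lit 10)], (nat_lit 56), (nat_lit 0), (nat_lit 0), (nat_lit 5)⟩) (BT.leaf ⟨[(nat_lit 3), (nat_lit 11), (nat_lit 3), (nat_lit 11)], (nat_lit 38), (nat_lit 0), (nat_lit 0), (nat_lit 5)⟩))))))) (BT.node (nat_lit 75) (BT.node (nat_lit 62) (BT.node (nat_lit 56) (BT.node (nat_lit 53) (BT.node (nat_lit 51) (BT.leaf ⟨[(nat_lit 4), (nat_lit 11), (nat_lit 4), (nat_lit 11)], (nat_lit 46), (nat_lit 0), (nat_lit 0), (nat_lit 5)⟩) (BT.node (nat_lit 52) (BT.leaf ⟨[(nat_lit 5), (nat_lit 11), (nat_lit 5), (nat_lit 11)], (nat_lit 53), (nat_lit 0), (nat_lit 0), (nat_lit 5)⟩) (BT.leaf ⟨[(nat_lit 3), (nat_lit 12), (nat_lit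 3), (nat_lit 12)], (nat_lit 42), (nat_lit 0), (nat_lit 0), (nat_lit 5)⟩))) (BT.node (nat_lit 54) (BT.leaf ⟨[(nat_lit 4), (nat_lit 12), (nat_lit 4), (nat_lit 12)], (nat_lit 50), (nat_lit 0), (nat_lit 0), (nat_lit 5)⟩) (BT.node (nat_lit 55) (BT.leaf ⟨[(nat_lit 5), (nat_lit 12), (nat_lit 5), (nat_lit 12)], (nat_lit 57), (nat_lit 0), (nat_lit 0), (nat_lit 5)⟩) (BT.leaf ⟨[(nat_lit 6), (nat_lit 8), (nat_lit 6), (nat_lit 8)], (nat_lit 60), (nat_lit 0), (nat_lit 0), (nat_lit 4)⟩)))) (BT.node (nat_lit 59) (BT.node (nat_lit 57) (BT.leaf ⟨[(nat_lit 6), (nat_lit 6)], (nat_lit 6), (nat_lit 0), (nat_lit 0), (nat_lit 4)⟩) (BT.node (nat_lit 58) (BT.leaf ⟨[(nat_lit 6), (nat_lit 9), (nat_lit 6), (nat_lit 9)], (nat_lit 61), (nat_lit 0), (nat_lit 0), (nat_lit 4)⟩) (BT.leaf ⟨[(nat_lit 6), (nat_lit 10), (nat_lit 6), (nat_lit 10)], (nat_lit 62), (nat_lit 0), (nat_lit 0), (nat_lit 4)⟩))) (BT.node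 (nat_lit 60) (BT.leaf ⟨[(nat_lit 6), (nat_lit 12), (nat_lit 6), (nat_lit 12)], (nat_lit 63), (nat_lit 0), (nat_lit 0), (nat_lit 4)⟩) (BT.node (nat_lit 61) (BT.leaf ⟨[(nat_lit 7), (nat_lit 9), (nat_lit 7), (nat_lit 9)], (nat_lit 66), (nat_lit 0), (nat_lit 0), (nat_lit 4)⟩) (BT.leaf ⟨[(nat_lit 7), (nat_lit 7)], (nat_lit 7), (nat_lit 0), (nat_lit 0), (nat_lit 4)⟩))))) (BT.node (nat_lit 68) (BT.node (nat_lit 65) (BT.node (nat_lit 63) (BT.leaf ⟨[(nat_lit 7), (nat_lit 10), (nat_lit 7), (nat_lit 10)], (nat_lit 67), (nat_lit 0), (nat_lit 0), (nat_lit 4)⟩) (BT.node (nat_lit 64) (BT.leaf ⟨[(nat_lit 8), (nat_lit 10), (nat_lit 8), (nat_lit 10)], (nat_lit 74), (nat_lit 0), (nat_lit 0), (nat_lit 4)⟩) (BT.leaf ⟨[(nat_lit 8), (nat_lit 8)], (nat_lit 9), (nat_lit 0), (nat_lit 0), (nat_lit 4)⟩))) (BT.node (nat_lit 66) (BT.leaf ⟨[(nat_lit 9), (nat_lit 9)], (nat_lit 10), (nat_lit 0), (nat_lit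 0), (nat_lit 4)⟩) (BT.node (nat_lit 67) (BT.leaf ⟨[(nat_lit 11), (nat_lit 11)], (nat_lit 8), (nat_lit 0), (nat_lit 0), (nat_lit 4)⟩) (BT.leaf ⟨[(nat_lit 2), (nat_lit 1), (nat_lit 2), (nat_lit 1), (nat_lit 2), (nat_lit 1)], (nat_lit 13), (nat_lit 1), (nat_lit 0), (nat_lit 5)⟩)))) (BT.node (nat_lit 71) (BT.node (nat_lit 69) (BT.leaf ⟨[(nat_lit 4), (nat_lit 2), (nat_lit 4), (nat_lit 2)], (nat_lit 25), (nat_lit 1), (nat_lit 0), (nat_lit 4)⟩) (BT.node (nat_lit 70) (BT.leaf ⟨[(nat_lit 3), (nat_lit 4)], (nat_lit 0), (nat_lit 0), (nat_lit 0), (nat_lit 4)⟩) (BT.leaf ⟨[(nat_lit 0), (nat_lit 3), (nat_lit 2), (nat_lit 3), (nat_lit 2), (nat_lit 3), (nat_lit 2)], (nat_lit 24), (nat_lit 1), (nat_lit 1), (nat_lit 3)⟩))) (BT.node (nat_lit 73) (BT.node (nat_lit 72) (BT.leaf ⟨[(nat_lit 0), (nat_lit 6), (nat_lit 5), (nat_lit 6), (nat_lit 5), (nat_lit 6), (nat_lit 5)], (nat_lit 51), (nat_lit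 1), (nat_lit 1), (nat_lit 5)⟩) (BT.leaf ⟨[(nat_lit 7), (nat_lit 6), (nat_lit 7), (nat_lit 6), (nat_lit 7), (nat_lit 6)], (nat_lit 58), (nat_lit 1), (nat_lit 0), (nat_lit 5)⟩)) (BT.node (nat_lit 74) (BT.leaf ⟨[(nat_lit 6), (nat_lit 8), (nat_lit 6), (nat_lit 8)], (nat_lit 60), (nat_lit 0), (nat_lit 0), (nat_lit 5)⟩) (BT.leaf ⟨[(nat_lit 6), (nat_lit 9), (nat_lit 6), (nat_lit 9)], (nat_lit 61), (nat_lit 0), (nat_lit 0), (nat_lit 5)⟩)))))) (BT.node (nat_lit 87) (BT.node (nat_lit 81) (BT.node (nat_lit 78) (BT.node (nat_lit 76) (BT.leaf ⟨[(nat_lit 11), (nat_lit 6), (nat_lit 11), (nat_lit 6), (nat_lit 11), (nat_lit 6)], (nat_lit 59), (nat_lit 1), (nat_lit 0), (nat_lit 5)⟩) (BT.node (nat_lit 77) (BT.leaf ⟨[(nat_lit 8), (nat_lit 7), (nat_lit 8), (nat_lit 7), (nat_lit 8), (nat_lit 7)], (nat_lit 65), (nat_lit 1), (nat_lit 0), (nat_lit 4)⟩) (BT.leaf ⟨[(nat_lit 9), (nat_lit 8), (nat_lit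 9), (nat_lit 8), (nat_lit 9), (nat_lit 8)], (nat_lit 73), (nat_lit 1), (nat_lit 0), (nat_lit 4)⟩))) (BT.node (nat_lit 79) (BT.leaf ⟨[(nat_lit 10), (nat_lit 9), (nat_lit 10), (nat_lit 9), (nat_lit 10), (nat_lit 9)], (nat_lit 76), (nat_lit 1), (nat_lit 0), (nat_lit 4)⟩) (BT.node (nat_lit 80) (BT.leaf ⟨[(nat_lit 10), (nat_lit 10)], (nat_lit 11), (nat_lit 0), (nat_lit 0), (nat_lit 4)⟩) (BT.leaf ⟨[(nat_lit 12), (nat_lit 11), (nat_lit 12), (nat_lit 11), (nat_lit 12), (nat_lit 11)], (nat_lit 72), (nat_lit 1), (nat_lit 0), (nat_lit 4)⟩)))) (BT.node (nat_lit 84) (BT.node (nat_lit 82) (BT.leaf ⟨[(nat_lit 12), (nat_lit 12)], (nat_lit 12), (nat_lit 0), (nat_lit 0), (nat_lit 4)⟩) (BT.node (nat_lit 83) (BT.leaf ⟨[(nat_lit 3), (nat_lit 5), (nat_lit 3), (nat_lit 5)], (nat_lit 35), (nat_lit 0), (nat_lit 0), (nat_lit 4)⟩) (BT.leaf ⟨[(nat_lit 0), (nat_lit 5), (nat_lit 4), (nat_lit 5),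 (nat_lit 4), (nat_lit 5), (nat_lit 4)], (nat_lit 43), (nat_lit 1), (nat_lit 1), (nat_lit 4)⟩))) (BT.node (nat_lit 85) (BT.leaf ⟨[(nat_lit 3), (nat_lit 6), (nat_lit 3), (nat_lit 6)], (nat_lit 36), (nat_lit 0), (nat_lit 0), (nat_lit 4)⟩) (BT.node (nat_lit 86) (BT.leaf ⟨[(nat_lit 4), (nat_lit 6), (nat_lit 4), (nat_lit 6)], (nat_lit 44), (nat_lit 0), (nat_lit 0), (nat_lit 4)⟩) (BT.leaf ⟨[(nat_lit 8), (nat_lit 6), (nat_lit 8), (nat_lit 6)], (nat_lit 60), (nat_lit 1), (nat_lit 0), (nat_lit 5)⟩))))) (BT.node (nat_lit 93) (BT.node (nat_lit 90) (BT.node (nat_lit 88) (BT.leaf ⟨[(nat_lit 3), (nat_lit 7), (nat_lit 3), (nat_lit 7)], (nat_lit 37), (nat_lit 0), (nat_lit 0), (nat_lit 4)⟩) (BT.node (nat_lit 89) (BT.leaf ⟨[(nat_lit 4), (nat_lit 7), (nat_lit 4), (nat_lit 7)], (nat_lit 45), (nat_lit 0), (nat_lit 0), (nat_lit 4)⟩) (BT.leaf ⟨[(nat_lit 5), (nat_lit 7), (nat_lit 5), (nat_lit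 7)], (nat_lit 52), (nat_lit 0), (nat_lit 0), (nat_lit 4)⟩))) (BT.node (nat_lit 91) (BT.leaf ⟨[(nat_lit 8), (nat_lit 7), (nat_lit 8), (nat_lit 7), (nat_lit 8), (nat_lit 7)], (nat_lit 65), (nat_lit 1), (nat_lit 0), (nat_lit 5)⟩) (BT.node (nat_lit 92) (BT.leaf ⟨[(nat_lit 3), (nat_lit 8), (nat_lit 3), (nat_lit 8)], (nat_lit 39), (nat_lit 0), (nat_lit 0), (nat_lit 4)⟩) (BT.leaf ⟨[(nat_lit 4), (nat_lit 8), (nat_lit 4), (nat_lit 8)], (nat_lit 47), (nat_lit 0), (nat_lit 0), (nat_lit 4)⟩)))) (BT.node (nat_lit 96) (BT.node (nat_lit 94) (BT.leaf ⟨[(nat_lit 5), (nat_lit 8), (nat_lit 5), (nat_lit 8)], (nat_lit 54), (nat_lit 0), (nat_lit 0), (nat_lit 4)⟩) (BT.node (nat_lit 95) (BT.leaf ⟨[(nat_lit 12), (nat_lit 6), (nat_lit 12), (nat_lit 6)], (nat_lit 63), (nat_lit 1), (nat_lit 0), (nat_lit 5)⟩) (BT.leaf ⟨[(nat_lit 9), (nat_lit 7), (nat_lit 9), (nat_lit 7)], (nat_lit 66), (nat_lit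 1), (nat_lit 0), (nat_lit 4)⟩))) (BT.node (nat_lit 98) (BT.node (nat_lit 97) (BT.leaf ⟨[(nat_lit 10), (nat_lit 8), (nat_lit 10), (nat_lit 8)], (nat_lit 74), (nat_lit 1), (nat_lit 0), (nat_lit 4)⟩) (BT.leaf ⟨[(nat_lit 8), (nat_lit 6), (nat_lit 8), (nat_lit 6)], (nat_lit 60), (nat_lit 1), (nat_lit 0), (nat_lit 4)⟩)) (BT.node (nat_lit 99) (BT.leaf ⟨[(nat_lit 7), (nat_lit 6), (nat_lit 7), (nat_lit 6), (nat_lit 7), (nat_lit 6)], (nat_lit 58), (nat_lit 1), (nat_lit 0), (nat_lit 4)⟩) (BT.leaf ⟨[(nat_lit 9), (nat_lit 7), (nat_lit 9), (nat_lit 7)], (nat_lit 66), (nat_lit 1), (nat_lit 0), (nat_lit 5)⟩))))))))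
noncomputable def e0_hcs : List CW := []
noncomputable def e0_H (x j : Nat) : Bx (Nat → Nat → Nat) := mkH e0_L e0_pb.1 e0_e.get (lmap CW.w e0_hcs) (nat_lit 2) (nat_lit 3) (nat_lit 13) (nat_lit 128) (nat_lit 16384) (nat_lit 8191) x (e0_rots.get j)
noncomputable def e0_F (x b : Nat) : Bool := blkOK e0_H e0_ch (nat_lit 3) (nat_lit 128) (nat_lit 128) (nat_lit 8) (nat_lit 255) (nat_lit 20) (nat_lit 1048575) x b

theorem e0_k0_0 : allFrom (e0_F (nat_lit 0)) (nat_lit 0) (nat_lit 4) = true := by decide +kernel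
theorem e0_k1_0 : allFrom (e0_F (nat_lit 1)) (nat_lit 0) (nat_lit 4) = true := by decide +kernel
theorem e0_k2_0 : allFrom (e0_F (nat_lit 2)) (nat_lit 0) (nat_lit 4) = true := by decide +kernel
theorem e0_k3_0 : allFrom (e0_F (nat_lit 3)) (nat_lit 0) (nat_lit 4) = true := by decide +kernel
theorem e0_k4_0 : allFrom (e0_F (nat_lit 4)) (nat_lit 0) (nat_lit 4) = true := by decide +kernel
theorem e0_k5_0 : allFrom (e0_F (nat_lit 5)) (nat_lit 0) (nat_lit 4) = true := by decide +kernel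
theorem e0_k6_0 : allFrom (e0_F (nat_lit 6)) (nat_lit 0) (nat_lit 4) = true := by decide +kernel
theorem e0_k7_0 : allFrom (e0_F (nat_lit 7)) (nat_lit 0) (nat_lit 4) = true := by decide +kernel
theorem e0_k8_0 : allFrom (e0_F (nat_lit 8)) (nat_lit 0) (nat_lit 4) = true := by decide +kernel
theorem e0_k9_0 : allFrom (e0_F (nat_lit 9)) (nat_lit 0) (nat_lit 4) = true := by decide +kernel
theorem e0_k10_0 : allFrom (e0_F (nat_lit 10)) (nat_lit 0) (nat_lit 4) = true := by decide +kernel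
theorem e0_k11_0 : allFrom (e0_F (nat_lit 11)) (nat_lit 0) (nat_lit 4) = true := by decide +kernel
theorem e0_k12_0 : allFrom (e0_F (nat_lit 12)) (nat_lit 0) (nat_lit 4) = true := by decide +kernel


end CF.Comp.Fi24
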