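import Cfsg.Agent.Comp.Pres
import Cfsg.Agent.Comp.Fi24.Rels
import Cfsg.Agent.Comp.Fi24.ED

set_option autoImplicit false
set_option maxRecDepth 1000000
set_option maxHeartbeats 0
set_option Elab.async false

namespace CF.Comp.Fi24

theorem e3_all : Cov e3_F 4 10 0 := by
  have h := Cov.zero e3_F 4
  have h := h.blk (b := 4) e3_k0_0 rfl
  have h := h.next (y := 1) rfl rfl
  have h := h.blk (b := 4) e3_k1_0 rfl
  have h := h.next (y := 2) rfl rfl
  have h := h.blk (b := 4) e3_k2_0 rfl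
  have h := h.next (y := 3) rfl rfl
  have h := h.blk (b := 4) e3_k3_0 rfl
  have h := h.next (y := 4) rfl rfl
  have h := h.blk (b := 4) e3_k4_0 rfl
  have h := h.next (y := 5) rfl rfl
  have h := h.blk (b := 4) e3_k5_0 rfl
  have h := h.next (y := 6) rfl rfl
  have h := h.blk (b := 4) e3_k6_0 rfl
  have h := h.next (y := 7) rfl rfl
  have h := h.blk (b := 4) e3_k7_0 rfl
  have h := h.next (y := 8) rfl rfl
  have h := h.blk (b := 4) e3_k8_0 rfl
  have h := h.next (y := 9) rfl rfl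
  have h := h.blk (b := 4) e3_k9_0 rfl
  have h := h.next (y := 10) rfl rfl
  exact h

theorem e3 : Enum R3 H4 H3 120 :=
  ⟨e3_cols, e3_ch, e3_L, e3_H, e3_pb.1, e3_e.get, [(nat_lit 0), (nat_lit 1), (nat_lit 3), (nat_lit 5), (nat_lit 7), (nat_lit 9), (nat_lit 11), (nat_lit 13), (nat_lit 15), (nat_lit 21)], (nat_lit 1279), (nat_lit 12), e3_rots, e3_hcs,
    (nat_lit 121), (nat_lit 10), (nat_lit 128), (nat_lit 128), (nat_lit 16384), (nat_lit 8191), (nat_lit 8), (nat_lit 255), (nat_lit 20), (nat_lit 1048575), (nat_lit 1), (nat_lit 4),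
    fun _ _ => rfl, fun _ => rfl, fun _ _ => rfl, by decide +kernel, e3_all.1⟩

theorem e4_all : Cov e4_F 4 9 0 := by
  have h := Cov.zero e4_F 4
  have h := h.blk (b := 4) e4_k0_0 rfl
  have h := h.next (y := 1) rfl rfl
  have h := h.blk (b := 4) e4_k1_0 rfl
  have h := h.next (y := 2) rfl rfl
  have h := h.blk (b := 4) e4_k2_0 rfl
  have h := h.next (y := 3) rfl rfl
  have h := h.blk (b := 4) e4_k3_0 rfl
  have h := h.next (y := 4) rfl rfl
  have h := h.blk (b := 4) e4_k4_0 rfl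
  have h := h.next (y := 5) rfl rfl
  have h := h.blk (b := 4) e4_k5_0 rfl
  have h := h.next (y := 6) rfl rfl
  have h := h.blk (b := 4) e4_k6_0 rfl
  have h := h.next (y := 7) rfl rfl
  have h := h.blk (b := 4) e4_k7_0 rfl
  have h := h.next (y := 8) rfl rfl
  have h := h.blk (b := 4) e4_k8_0 rfl
  have h := h.next (y := 9) rfl rfl
  exact h

theorem e4 : Enum R4 H5 H4 56 :=
  ⟨e4_cols, e4_ch, e4_L, e4_H, e4_pb.1, e4_e.get, [(nat_lit 0), (nat_lit 1), (nat_lit 5), (nat_lit 7), (nat_lit 9), (nat_lit 11), (nat_lit 13), (nat_lit 15), (nat_lit 21)], (nat_lit 1277), (nat_lit 12), e4_rots, e4_hcs,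
    (nat_lit 57), (nat_lit 9), (nat_lit 64), (nat_lit 128), (nat_lit 8192), (nat_lit 4095), (nat_lit 8), (nat_lit 255), (nat_lit 18), (nat_lit 262143), (nat_lit 1), (nat_lit 4),
    fun _ _ => rfl, fun _ => rfl, fun _ _ => rfl, by decide +kernel, e4_all.1⟩

theorem e5_all : Cov e5_F 4 7 0 := by
  have h := Cov.zero e5_F 4
  have h := h.blk (b := 4) e5_k0_0 rfl
  have h := h.next (y := 1) rfl rfl
  have h := h.blk (b := 4) e5_k1_0 rfl
  have h := h.next (y := 2) rfl rfl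
  have h := h.blk (b := 4) e5_k2_0 rfl
  have h := h.next (y := 3) rfl rfl
  have h := h.blk (b := 4) e5_k3_0 rfl
  have h := h.next (y := 4) rfl rfl
  have h := h.blk (b := 4) e5_k4_0 rfl
  have h := h.next (y := 5) rfl rfl
  have h := h.blk (b := 4) e5_k5_0 rfl
  have h := h.next (y := 6) rfl rfl
  have h := h.blk (b := 4) e5_k6_0 rfl
  have h := h.next (y := 7) rfl rfl
  exact h

theorem e5 : Enum R5 H6 H5 27 :=
  ⟨e5_cols, e5_ch, e5_L, e5_H, e5_pb.1, e5_e.get, [(nat_lit 0), (nat_lit 7), (nat_lit 9), (nat_lit 11), (nat_lit 13), (nat_lit 15), (nat_lit 21)], (nat_lit 1272), (nat_lit 12), e5_rots, e5_hcs,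
    (nat_lit 28), (nat_lit 7), (nat_lit 32), (nat_lit 64), (nat_lit 2048), (nat_lit 2047), (nat_lit 8), (nat_lit 255), (nat_lit 15), (nat_lit 32767), (nat_lit 1), (nat_lit 4),
    fun _ _ => rfl, fun _ => rfl, fun _ _ => rfl, by decide +kernel, e5_all.1⟩

theorem e6_all : Cov e6_F 4 6 0 := by
  have h := Cov.zero e6_F 4
  have h := h.blk (b := 4) e6_k0_0 rfl
  have h := h.next (y := 1) rfl rfl
  have h := h.blk (b := 4) e6_k1_0 rfl
  have h := h.next (y := 2) rfl rfl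
  have h := h.blk (b := 4) e6_k2_0 rfl
  have h := h.next (y := 3) rfl rfl
  have h := h.blk (b := 4) e6_k3_0 rfl
  have h := h.next (y := 4) rfl rfl
  have h := h.blk (b := 4) e6_k4_0 rfl
  have h := h.next (y := 5) rfl rfl
  have h := h.blk (b := 4) e6_k5_0 rfl
  have h := h.next (y := 6) rfl rfl
  exact h

theorem e6 : Enum R6 H7 H6 16 :=
  ⟨e6_cols, e6_ch, e6_L, e6_H, e6_pb.1, e6_e.get, [(nat_lit 0), (nat_lit 9), (nat_lit 11), (nat_lit 13), (nat_lit 15), (nat_lit 21)], (nat_lit 1264), (nat_lit 12), e6_rots, e6_hcs,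
    (nat_lit 17), (nat_lit 6), (nat_lit 32), (nat_lit 32), (nat_lit 1024), (nat_lit 2047), (nat_lit 8), (nat_lit 255), (nat_lit 14), (nat_lit 16383), (nat_lit 1), (nat_lit 4),
    fun _ _ => rfl, fun _ => rfl, fun _ _ => rfl, by decide +kernel, e6_all.1⟩

theorem e7_all : Cov e7_F 4 5 0 := by
  have h := Cov.zero e7_F 4
  have h := h.blk (b := 4) e7_k0_0 rfl
  have h := h.next (y := 1) rfl rfl
  have h := h.blk (b := 4) e7_k1_0 rfl
  have h := h.next (y := 2) rfl rfl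
  have h := h.blk (b := 4) e7_k2_0 rfl
  have h := h.next (y := 3) rfl rfl
  have h := h.blk (b := 4) e7_k3_0 rfl
  have h := h.next (y := 4) rfl rfl
  have h := h.blk (b := 4) e7_k4_0 rfl
  have h := h.next (y := 5) rfl rfl
  exact h

theorem e7 : Enum R7 H8 H7 5 :=
  ⟨e7_cols, e7_ch, e7_L, e7_H, e7_pb.1, e7_e.get, [(nat_lit 0), (nat_lit 9), (nat_lit 11), (nat_lit 13), (nat_lit 15)], (nat_lit 240), (nat_lit 12), e7_rots, e7_hcs,
    (nat_lit 6), (nat_lit 5), (nat_lit 8), (nat_lit 32), (nat_lit 256), (nat_lit 511), (nat_lit 8), (nat_lit 255), (nat_lit 11), (nat_lit 2047), (nat_lit 1), (nat_lit 4),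
    fun _ _ => rfl, fun _ => rfl, fun _ _ => rfl, by decide +kernel, e7_all.1⟩

theorem e8_all : Cov e8_F 4 4 0 := by
  have h := Cov.zero e8_F 4
  have h := h.blk (b := 4) e8_k0_0 rfl
  have h := h.next (y := 1) rfl rfl
  have h := h.blk (b := 4) e8_k1_0 rfl
  have h := h.next (y := 2) rfl rfl
  have h := h.blk (b := 4) e8_k2_0 rfl
  have h := h.next (y := 3) rfl rfl
  have h := h.blk (b := 4) e8_k3_0 rfl
  have h := h.next (y := 4) rfl rfl
  exact h

theorem e8 : Enum R8 [] H8 24 :=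
  ⟨e8_cols, e8_ch, e8_L, e8_H, e8_pb.1, e8_e.get, [(nat_lit 0), (nat_lit 9), (nat_lit 11), (nat_lit 13)], (nat_lit 112), (nat_lit 12), e8_rots, e8_hcs,
    (nat_lit 25), (nat_lit 4), (nat_lit 32), (nat_lit 16), (nat_lit 512), (nat_lit 2047), (nat_lit 8), (nat_lit 255), (nat_lit 12), (nat_lit 4095), (nat_lit 1), (nat_lit 4),
    fun _ _ => rfl, fun _ => rfl, fun _ _ => rfl, by decide +kernel, e8_all.1⟩

theorem e9_all : Cov e9_F 4 12 0 := by
  have h := Cov.zero e9_F 4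
  have h := h.blk (b := 4) e9_k0_0 rfl
  have h := h.next (y := 1) rfl rfl
  have h := h.blk (b := 4) e9_k1_0 rfl
  have h := h.next (y := 2) rfl rfl
  have h := h.blk (b := 4) e9_k2_0 rfl
  have h := h.next (y := 3) rfl rfl
  have h := h.blk (b := 4) e9_k3_0 rfl
  have h := h.next (y := 4) rfl rfl
  have h := h.blk (b := 4) e9_k4_0 rfl
  have h := h.next (y := 5) rfl rfl
  have h := h.blk (b := 4) e9_k5_0 rfl
  have h := h.next (y := 6) rfl rfl
  have h := h.blk (b := 4) e9_k6_0 rfl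
  have h := h.next (y := 7) rfl rfl
  have h := h.blk (b := 4) e9_k7_0 rfl
  have h := h.next (y := 8) rfl rfl
  have h := h.blk (b := 4) e9_k8_0 rfl
  have h := h.next (y := 9) rfl rfl
  have h := h.blk (b := 4) e9_k9_0 rfl
  have h := h.next (y := 10) rfl rfl
  have h := h.blk (b := 4) e9_k10_0 rfl
  have h := h.next (y := 11) rfl rfl
  have h := h.blk (b := 4) e9_k11_0 rfl
  have h := h.next (y := 12) rfl rfl
  exact h

theorem e9 : Enum R1 K1 H1 2 :=
  ⟨e9_cols, e9_ch, e9_L, e9_H, e9_pb.1, e9_e.get, [(nat_lit 0), (nat_lit 1), (nat_lit 5), (nat_lit 7), (nat_lit 9), (nat_lit 11), (nat_lit 13), (nat_lit 15), (nat_lit 17), (nat_lit 19), (nat_lit 21), (nat_lit 23)], (nat_lit 4093), (nat_lit 12), e9_rots, e9_hcs,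
    (nat_lit 3), (nat_lit 12), (nat_lit 4), (nat_lit 16), (nat_lit 64), (nat_lit 255), (nat_lit 8), (nat_lit 255), (nat_lit 8), (nat_lit 255), (nat_lit 1), (nat_lit 4),
    fun _ _ => rfl, fun _ => rfl, fun _ _ => rfl, by decide +kernel, e9_all.1⟩

theorem e0_all : Cov e0_F 4 13 0 := by
  have h := Cov.zero e0_F 4
  have h := h.blk (b := 4) e0_k0_0 rfl
  have h := h.next (y := 1) rfl rfl
  have h := h.blk (b := 4) e0_k1_0 rfl
  have h := h.next (y := 2) rfl rfl
  have h := h.blk (b := 4) e0_k2_0 rfl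
  have h := h.next (y := 3) rfl rfl
  have h := h.blk (b := 4) e0_k3_0 rfl
  have h := h.next (y := 4) rfl rfl
  have h := h.blk (b := 4) e0_k4_0 rfl
  have h := h.next (y := 5) rfl rfl
  have h := h.blk (b := 4) e0_k5_0 rfl
  have h := h.next (y := 6) rfl rfl
  have h := h.blk (b := 4) e0_k6_0 rfl
  have h := h.next (y := 7) rfl rfl
  have h := h.blk (b := 4) e0_k7_0 rfl
  have h := h.next (y := 8) rfl rfl
  have h := h.blk (b := 4) e0_k8_0 rfl
  have h := h.next (y := 9) rfl rfl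
  have h := h.blk (b := 4) e0_k9_0 rfl
  have h := h.next (y := 10) rfl rfl
  have h := h.blk (b := 4) e0_k10_0 rfl
  have h := h.next (y := 11) rfl rfl
  have h := h.blk (b := 4) e0_k11_0 rfl
  have h := h.next (y := 12) rfl rfl
  have h := h.blk (b := 4) e0_k12_0 rfl
  have h := h.next (y := 13) rfl rfl
  exact h

theorem e0 : Enum (lapp [[5, 7]] rels) [] (gensW 12) 2 :=
  ⟨e0_cols, e0_ch, e0_L, e0_H, e0_pb.1, e0_e.get, [(nat_lit 0), (nat_lit 1), (nat_lit 3), (nat_lit 5), (nat_lit 7), (nat_lit 9), (nat_lit 11), (nat_lit 13), (nat_lit 15), (nat_lit 17), (nat_lit 19), (nat_lit 21), (nat_lit 23)], (nat_lit 4095), (nat_lit 12), e0_rots, e0_hcs,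
    (nat_lit 3), (nat_lit 13), (nat_lit 128), (nat_lit 128), (nat_lit 16384), (nat_lit 8191), (nat_lit 8), (nat_lit 255), (nat_lit 20), (nat_lit 1048575), (nat_lit 1), (nat_lit 4),
    fun _ _ => rfl, fun _ => rfl, fun _ _ => rfl, by decide +kernel, e0_all.1⟩


end CF.Comp.Fi24
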