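import Cfsg.Agent.Comp.Big2
import Cfsg.Agent.Comp.Fi24.Rels
import Cfsg.Agent.Comp.Fi24.Nets
import Cfsg.Agent.Comp.Fi23.Nets

set_option autoImplicit false
set_option maxRecDepth 1000000
set_option maxHeartbeats 0
set_option Elab.async false

namespace CF.Comp.Fi24

theorem rokA_28_0 : allFrom (relP N0 306938 RA 28) 0 14 = true := by decide +kernel
theorem rokA_28_14 : allFrom (relP N0 306938 RA 28) 14 5 = true := by decide +kernel
theorem rokA_29_0 : allFrom (relP N0 306938 RA 29) 0 14 = true := by decide +kernel
theorem rokA_29_14 : allFrom (relP N0 306938 RA 29) 14 5 = true := by decide +kernel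
theorem rokA_30_0 : allFrom (relP N0 306938 RA 30) 0 14 = true := by decide +kernel
theorem rokA_30_14 : allFrom (relP N0 306938 RA 30) 14 5 = true := by decide +kernel
theorem rokA_31_0 : allFrom (relP N0 306938 RA 31) 0 14 = true := by decide +kernel
theorem rokA_31_14 : allFrom (relP N0 306938 RA 31) 14 5 = true := by decide +kernel
theorem rokA_32_0 : allFrom (relP N0 306938 RA 32) 0 14 = true := by decide +kernel
theorem rokA_32_14 : allFrom (relP N0 306938 RA 32) 14 5 = true := by decide +kernel
theorem rokA_33_0 : allFrom (relP N0 306938 RA 33) 0 9 = true := by decide +kernel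
theorem rokA_33_9 : allFrom (relP N0 306938 RA 33) 9 9 = true := by decide +kernel
theorem rokA_33_18 : allFrom (relP N0 306938 RA 33) 18 1 = true := by decide +kernel
theorem rokA_34_0 : allFrom (relP N0 306938 RA 34) 0 14 = true := by decide +kernel
theorem rokA_34_14 : allFrom (relP N0 306938 RA 34) 14 5 = true := by decide +kernel
theorem rokA_35_0 : allFrom (relP N0 306938 RA 35) 0 14 = true := by decide +kernel
theorem rokA_35_14 : allFrom (relP N0 306938 RA 35) 14 5 = true := by decide +kernel
theorem rokA_36_0 : allFrom (relP N0 306938 RA 36) 0 14 = true := by decide +kernel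
theorem rokA_36_14 : allFrom (relP N0 306938 RA 36) 14 5 = true := by decide +kernel
theorem rokA_37_0 : allFrom (relP N0 306938 RA 37) 0 14 = true := by decide +kernel
theorem rokA_37_14 : allFrom (relP N0 306938 RA 37) 14 5 = true := by decide +kernel
theorem rokA_38_0 : allFrom (relP N0 306938 RA 38) 0 14 = true := by decide +kernel
theorem rokA_38_14 : allFrom (relP N0 306938 RA 38) 14 5 = true := by decide +kernel
theorem rokA_39_0 : allFrom (relP N0 306938 RA 39) 0 14 = true := by decide +kernel
theorem rokA_39_14 : allFrom (relP N0 306938 RA 39) 14 5 = true := by decide +kernel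
theorem rokA_40_0 : allFrom (relP N0 306938 RA 40) 0 14 = true := by decide +kernel
theorem rokA_40_14 : allFrom (relP N0 306938 RA 40) 14 5 = true := by decide +kernel
theorem rokA_41_0 : allFrom (relP N0 306938 RA 41) 0 14 = true := by decide +kernel
theorem rokA_41_14 : allFrom (relP N0 306938 RA 41) 14 5 = true := by decide +kernel
theorem rokA_42_0 : allFrom (relP N0 306938 RA 42) 0 9 = true := by decide +kernel
theorem rokA_42_9 : allFrom (relP N0 306938 RA 42) 9 9 = true := by decide +kernel
theorem rokA_42_18 : allFrom (relP N0 306938 RA 42) 18 1 = true := by decide +kernel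
theorem rokA_43_0 : allFrom (relP N0 306938 RA 43) 0 14 = true := by decide +kernel
theorem rokA_43_14 : allFrom (relP N0 306938 RA 43) 14 5 = true := by decide +kernel
theorem rokA_44_0 : allFrom (relP N0 306938 RA 44) 0 14 = true := by decide +kernel
theorem rokA_44_14 : allFrom (relP N0 306938 RA 44) 14 5 = true := by decide +kernel
theorem rokA_45_0 : allFrom (relP N0 306938 RA 45) 0 14 = true := by decide +kernel
theorem rokA_45_14 : allFrom (relP N0 306938 RA 45) 14 5 = true := by decide +kernel
theorem rokA_46_0 : allFrom (relP N0 306938 RA 46) 0 14 = true := by decide +kernel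
theorem rokA_46_14 : allFrom (relP N0 306938 RA 46) 14 5 = true := by decide +kernel
theorem rokA_47_0 : allFrom (relP N0 306938 RA 47) 0 14 = true := by decide +kernel
theorem rokA_47_14 : allFrom (relP N0 306938 RA 47) 14 5 = true := by decide +kernel
theorem rokA_48_0 : allFrom (relP N0 306938 RA 48) 0 14 = true := by decide +kernel
theorem rokA_48_14 : allFrom (relP N0 306938 RA 48) 14 5 = true := by decide +kernel
theorem rokA_49_0 : allFrom (relP N0 306938 RA 49) 0 14 = true := by decide +kernel
theorem rokA_49_14 : allFrom (relP N0 306938 RA 49) 14 5 = true := by decide +kernel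

end CF.Comp.Fi24
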