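import Cfsg.Agent.Comp.Big2
import Cfsg.Agent.Comp.Fi24.Rels
import Cfsg.Agent.Comp.Fi24.Nets
import Cfsg.Agent.Comp.Fi23.Nets

set_option autoImplicit false
set_option maxRecDepth 1000000
set_option maxHeartbeats 0
set_option Elab.async false

namespace CF.Comp.Fi24

theorem rokA_50_0 : allFrom (relP N0 306938 RA 50) 0 9 = true := by decide +kernel
theorem rokA_50_9 : allFrom (relP N0 306938 RA 50) 9 9 = true := by decide +kernel
theorem rokA_50_18 : allFrom (relP N0 306938 RA 50) 18 1 = true := by decide +kernel
theorem rokA_51_0 : allFrom (relP N0 306938 RA 51) 0 14 = true := by decide +kernel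
theorem rokA_51_14 : allFrom (relP N0 306938 RA 51) 14 5 = true := by decide +kernel
theorem rokA_52_0 : allFrom (relP N0 306938 RA 52) 0 14 = true := by decide +kernel
theorem rokA_52_14 : allFrom (relP N0 306938 RA 52) 14 5 = true := by decide +kernel
theorem rokA_53_0 : allFrom (relP N0 306938 RA 53) 0 14 = true := by decide +kernel
theorem rokA_53_14 : allFrom (relP N0 306938 RA 53) 14 5 = true := by decide +kernel
theorem rokA_54_0 : allFrom (relP N0 306938 RA 54) 0 14 = true := by decide +kernel
theorem rokA_54_14 : allFrom (relP N0 306938 RA 54) 14 5 = true := by decide +kernel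
theorem rokA_55_0 : allFrom (relP N0 306938 RA 55) 0 14 = true := by decide +kernel
theorem rokA_55_14 : allFrom (relP N0 306938 RA 55) 14 5 = true := by decide +kernel
theorem rokA_56_0 : allFrom (relP N0 306938 RA 56) 0 14 = true := by decide +kernel
theorem rokA_56_14 : allFrom (relP N0 306938 RA 56) 14 5 = true := by decide +kernel
theorem rokA_57_0 : allFrom (relP N0 306938 RA 57) 0 9 = true := by decide +kernel
theorem rokA_57_9 : allFrom (relP N0 306938 RA 57) 9 9 = true := by decide +kernel
theorem rokA_57_18 : allFrom (relP N0 306938 RA 57) 18 1 = true := by decide +kernel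
theorem rokA_58_0 : allFrom (relP N0 306938 RA 58) 0 9 = true := by decide +kernel
theorem rokA_58_9 : allFrom (relP N0 306938 RA 58) 9 9 = true := by decide +kernel
theorem rokA_58_18 : allFrom (relP N0 306938 RA 58) 18 1 = true := by decide +kernel
theorem rokA_59_0 : allFrom (relP N0 306938 RA 59) 0 14 = true := by decide +kernel
theorem rokA_59_14 : allFrom (relP N0 306938 RA 59) 14 5 = true := by decide +kernel
theorem rokA_60_0 : allFrom (relP N0 306938 RA 60) 0 14 = true := by decide +kernel
theorem rokA_60_14 : allFrom (relP N0 306938 RA 60) 14 5 = true := by decide +kernel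
theorem rokA_61_0 : allFrom (relP N0 306938 RA 61) 0 14 = true := by decide +kernel
theorem rokA_61_14 : allFrom (relP N0 306938 RA 61) 14 5 = true := by decide +kernel
theorem rokA_62_0 : allFrom (relP N0 306938 RA 62) 0 14 = true := by decide +kernel
theorem rokA_62_14 : allFrom (relP N0 306938 RA 62) 14 5 = true := by decide +kernel
theorem rokA_63_0 : allFrom (relP N0 306938 RA 63) 0 14 = true := by decide +kernel
theorem rokA_63_14 : allFrom (relP N0 306938 RA 63) 14 5 = true := by decide +kernel
theorem rokA_64_0 : allFrom (relP N0 306938 RA 64) 0 9 = true := by decide +kernel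
theorem rokA_64_9 : allFrom (relP N0 306938 RA 64) 9 9 = true := by decide +kernel
theorem rokA_64_18 : allFrom (relP N0 306938 RA 64) 18 1 = true := by decide +kernel
theorem rokA_65_0 : allFrom (relP N0 306938 RA 65) 0 14 = true := by decide +kernel
theorem rokA_65_14 : allFrom (relP N0 306938 RA 65) 14 5 = true := by decide +kernel
theorem rokA_66_0 : allFrom (relP N0 306938 RA 66) 0 14 = true := by decide +kernel
theorem rokA_66_14 : allFrom (relP N0 306938 RA 66) 14 5 = true := by decide +kernel
theorem rokA_67_0 : allFrom (relP N0 306938 RA 67) 0 14 = true := by decide +kernel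
theorem rokA_67_14 : allFrom (relP N0 306938 RA 67) 14 5 = true := by decide +kernel
theorem rokA_68_0 : allFrom (relP N0 306938 RA 68) 0 14 = true := by decide +kernel
theorem rokA_68_14 : allFrom (relP N0 306938 RA 68) 14 5 = true := by decide +kernel
theorem rokA_69_0 : allFrom (relP N0 306938 RA 69) 0 14 = true := by decide +kernel
theorem rokA_69_14 : allFrom (relP N0 306938 RA 69) 14 5 = true := by decide +kernel
theorem rokA_70_0 : allFrom (relP N0 306938 RA 70) 0 14 = true := by decide +kernel
theorem rokA_70_14 : allFrom (relP N0 306938 RA 70) 14 5 = true := by decide +kernel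

end CF.Comp.Fi24
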