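import Cfsg.Agent.Comp.Big2
import Cfsg.Agent.Comp.Fi24.Rels
import Cfsg.Agent.Comp.Fi24.Nets
import Cfsg.Agent.Comp.Fi23.Nets

set_option autoImplicit false
set_option maxRecDepth 1000000
set_option maxHeartbeats 0
set_option Elab.async false

namespace CF.Comp.Fi24

theorem rokA_78_18 : allFrom (relP N0 306938 RA 78) 18 1 = true := by decide +kernel
theorem rokB_0_0 : allFrom (relP N 306938 [wpow [25] 17] 0) 0 3 = true := by decide +kernel
theorem rokB_0_3 : allFrom (relP N 306938 [wpow [25] 17] 0) 3 3 = true := by decide +kernel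
theorem rokB_0_6 : allFrom (relP N 306938 [wpow [25] 17] 0) 6 3 = true := by decide +kernel
theorem rokB_0_9 : allFrom (relP N 306938 [wpow [25] 17] 0) 9 3 = true := by decide +kernel
theorem rokB_0_12 : allFrom (relP N 306938 [wpow [25] 17] 0) 12 3 = true := by decide +kernel
theorem rokB_0_15 : allFrom (relP N 306938 [wpow [25] 17] 0) 15 3 = true := by decide +kernel
theorem rokB_0_18 : allFrom (relP N 306938 [wpow [25] 17] 0) 18 1 = true := by decide +kernel
theorem sok_0_0 : allFrom (slpP (lapp N0 N1) 306938 W 12 0) 0 3 = true := by decide +kernel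
theorem sok_0_3 : allFrom (slpP (lapp N0 N1) 306938 W 12 0) 3 3 = true := by decide +kernel
theorem sok_0_6 : allFrom (slpP (lapp N0 N1) 306938 W 12 0) 6 3 = true := by decide +kernel
theorem sok_0_9 : allFrom (slpP (lapp N0 N1) 306938 W 12 0) 9 3 = true := by decide +kernel
theorem sok_0_12 : allFrom (slpP (lapp N0 N1) 306938 W 12 0) 12 3 = true := by decide +kernel
theorem sok_0_15 : allFrom (slpP (lapp N0 N1) 306938 W 12 0) 15 3 = true := by decide +kernel
theorem sok_0_18 : allFrom (slpP (lapp N0 N1) 306938 W 12 0) 18 1 = true := by decide +kernel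
theorem sok_1_0 : allFrom (slpP (lapp N0 N1) 306938 W 12 1) 0 2 = true := by decide +kernel
theorem sok_1_2 : allFrom (slpP (lapp N0 N1) 306938 W 12 1) 2 2 = true := by decide +kernel
theorem sok_1_4 : allFrom (slpP (lapp N0 N1) 306938 W 12 1) 4 2 = true := by decide +kernel
theorem sok_1_6 : allFrom (slpP (lapp N0 N1) 306938 W 12 1) 6 2 = true := by decide +kernel
theorem sok_1_8 : allFrom (slpP (lapp N0 N1) 306938 W 12 1) 8 2 = true := by decide +kernel
theorem sok_1_10 : allFrom (slpP (lapp N0 N1) 306938 W 12 1) 10 2 = true := by decide +kernel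
theorem sok_1_12 : allFrom (slpP (lapp N0 N1) 306938 W 12 1) 12 2 = true := by decide +kernel
theorem sok_1_14 : allFrom (slpP (lapp N0 N1) 306938 W 12 1) 14 2 = true := by decide +kernel
theorem sok_1_16 : allFrom (slpP (lapp N0 N1) 306938 W 12 1) 16 2 = true := by decide +kernel
theorem sok_1_18 : allFrom (slpP (lapp N0 N1) 306938 W 12 1) 18 1 = true := by decide +kernel
theorem pok_0_0 : allFrom (preAt N Fi23.N0 K1 31671 15 0) 0 16 = true := by decide +kernel
theorem pok_1_0 : allFrom (preAt N Fi23.N0 K1 31671 15 1) 0 16 = true := by decide +kernel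
theorem pok_2_0 : allFrom (preAt N Fi23.N0 K1 31671 15 2) 0 16 = true := by decide +kernel
theorem pok_3_0 : allFrom (preAt N Fi23.N0 K1 31671 15 3) 0 16 = true := by decide +kernel
theorem pok_4_0 : allFrom (preAt N Fi23.N0 K1 31671 15 4) 0 16 = true := by decide +kernel
theorem pok_5_0 : allFrom (preAt N Fi23.N0 K1 31671 15 5) 0 16 = true := by decide +kernel
theorem pok_6_0 : allFrom (preAt N Fi23.N0 K1 31671 15 6) 0 16 = true := by decide +kernel
theorem pok_7_0 : allFrom (preAt N Fi23.N0 K1 31671 15 7) 0 16 = true := by decide +kernel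
theorem pok_8_0 : allFrom (preAt N Fi23.N0 K1 31671 15 8) 0 16 = true := by decide +kernel
theorem pok_9_0 : allFrom (preAt N Fi23.N0 K1 31671 15 9) 0 16 = true := by decide +kernel
theorem fok_0_0 : allFrom (fixAt N PW bs 0) 0 2 = true := by decide +kernel
theorem fok_0_2 : allFrom (fixAt N PW bs 0) 2 2 = true := by decide +kernel
theorem fok_0_4 : allFrom (fixAt N PW bs 0) 4 2 = true := by decide +kernel
theorem fok_0_6 : allFrom (fixAt N PW bs 0) 6 2 = true := by decide +kernel
theorem fok_0_8 : allFrom (fixAt N PW bs 0) 8 2 = true := by decide +kernel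

end CF.Comp.Fi24
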