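import Cfsg.Agent.Comp.Fi24.E1D0
import Cfsg.Agent.Comp.Fi24.E1D1
import Cfsg.Agent.Comp.Fi24.E1D2
import Cfsg.Agent.Comp.Fi24.E1D3

set_option autoImplicit false
set_option maxRecDepth 1000000
set_option maxHeartbeats 0

namespace CF.Comp.Fi24

noncomputable def e1_c0 : BT (Bx Nat) := (BT.node (nat_lit 512) (BT.node (nat_lit 256) e1_c0_0 e1_c0_256) (BT.node (nat_lit 768) e1_c0_512 (BT.node (nat_lit 1024) e1_c0_768 e1_c0_1024)))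
noncomputable def e1_c1 : BT (Bx Nat) := (BT.node (nat_lit 512) (BT.node (nat_lit 256) e1_c1_0 e1_c1_256) (BT.node (nat_lit 768) e1_c1_512 (BT.node (nat_lit 1024) e1_c1_768 e1_c1_1024)))
noncomputable def e1_c2 : BT (Bx Nat) := (BT.node (nat_lit 512) (BT.node (nat_lit 256) e1_c2_0 e1_c2_256) (BT.node (nat_lit 768) e1_c2_512 (BT.node (nat_lit 1024) e1_c2_768 e1_c2_1024)))
noncomputable def e1_c3 : BT (Bx Nat) := (BT.node (nat_lit 512) (BT.node (nat_lit 256) e1_c3_0 e1_c3_256) (BT.node (nat_lit 768) e1_c3_512 (BT.node (nat_lit 1024) e1_c3_768 e1_c3_1024)))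
noncomputable def e1_c4 : BT (Bx Nat) := (BT.node (nat_lit 512) (BT.node (nat_lit 256) e1_c4_0 e1_c4_256) (BT.node (nat_lit 768) e1_c4_512 (BT.node (nat_lit 1024) e1_c4_768 e1_c4_1024)))
noncomputable def e1_c5 : BT (Bx Nat) := (BT.node (nat_lit 512) (BT.node (nat_lit 256) e1_c5_0 e1_c5_256) (BT.node (nat_lit 768) e1_c5_512 (BT.node (nat_lit 1024) e1_c5_768 e1_c5_1024)))
noncomputable def e1_c6 : BT (Bx Nat) := (BT.node (nat_lit 512) (BT.node (nat_lit 256) e1_c6_0 e1_c6_256) (BT.node (nat_lit 768) e1_c6_512 (BT.node (nat_lit 1024) e1_c6_768 e1_c6_1024)))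
noncomputable def e1_c7 : BT (Bx Nat) := (BT.node (nat_lit 512) (BT.node (nat_lit 256) e1_c7_0 e1_c7_256) (BT.node (nat_lit 768) e1_c7_512 (BT.node (nat_lit 1024) e1_c7_768 e1_c7_1024)))
noncomputable def e1_c8 : BT (Bx Nat) := (BT.node (nat_lit 512) (BT.node (nat_lit 256) e1_c8_0 e1_c8_256) (BT.node (nat_lit 768) e1_c8_512 (BT.node (nat_lit 1024) e1_c8_768 e1_c8_1024)))
noncomputable def e1_c9 : BT (Bx Nat) := (BT.node (nat_lit 512) (BT.node (nat_lit 256) e1_c9_0 e1_c9_256) (BT.node (nat_lit 768) e1_c9_512 (BT.node (nat_lit 1024) e1_c9_768 e1_c9_1024)))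
noncomputable def e1_c10 : BT (Bx Nat) := (BT.node (nat_lit 512) (BT.node (nat_lit 256) e1_c10_0 e1_c10_256) (BT.node (nat_lit 768) e1_c10_512 (BT.node (nat_lit 1024) e1_c10_768 e1_c10_1024)))
noncomputable def e1_c11 : BT (Bx Nat) := (BT.node (nat_lit 512) (BT.node (nat_lit 256) e1_c11_0 e1_c11_256) (BT.node (nat_lit 768) e1_c11_512 (BT.node (nat_lit 1024) e1_c11_768 e1_c11_1024)))
noncomputable def e1_c12 : BT (Bx Nat) := (BT.node (nat_lit 512) (BT.node (nat_lit 256) e1_c12_0 e1_c12_256) (BT.node (nat_lit 768) e1_c12_512 (BT.node (nat_lit 1024) e1_c12_768 e1_c12_1024)))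
noncomputable def e1_p : BT (Bx Nat) := (BT.node (nat_lit 512) (BT.node (nat_lit 256) e1_p_0 e1_p_256) (BT.node (nat_lit 768) e1_p_512 (BT.node (nat_lit 1024) e1_p_768 e1_p_1024)))
noncomputable def e1_e : BT Nat := e1_e0
noncomputable def e1_cols : List (BT (Bx Nat)) := [e1_c0, e1_c1, e1_c2, e1_c3, e1_c4, e1_c5, e1_c6, e1_c7, e1_c8, e1_c9, e1_c10, e1_c11, e1_c12]
noncomputable def e1_ch (x j : Nat) : Bx Nat := chunkG e1_cols (nat_lit 1199) x j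
noncomputable def e1_L (x : Nat) : Bx (Nat → Nat) := lookG e1_ch (nat_lit 8) (nat_lit 255) (nat_lit 35) (nat_lit 0x7ffffffff) x
noncomputable def e1_pc (_ j : Nat) : Bx Nat := e1_p.get j
noncomputable def e1_pb : Bx (Nat → Nat) := lookG e1_pc (nat_lit 8) (nat_lit 255) (nat_lit 31) (nat_lit 2147483647) (nat_lit 0)
noncomputable def e1_rots : BT CW := (BT.node (nat_lit 79) (BT.node (nat_lit 39) (BT.node (nat_lit 19) (BT.node (nat_lit 9) (BT.node (nat_lit 4) (BT.node (nat_lit 2) (BT.node (nat_lit 1) (BT.leaf ⟨[], (nat_lit 1000000), (nat_lit 0), (nat_lit 0), (nat_lit 0)⟩) (BT.leaf ⟨[], (nat_lit 1000000), (nat_lit 0), (nat_lit 0), (nat_lit 1)⟩)) (BT.node (nat_lit 3) (BT.leaf ⟨[], (nat_lit 1000000), (nat_lit 0), (nat_lit 0), (nat_lit 2)⟩) (BT.leaf ⟨[(nat_lit 2), (nat_lit 2)], (nat_lit 2), (nat_lit 0), (nat_lit 0), (nat_lit 3)⟩))) (BT.node (nat_lit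 6) (BT.node (nat_lit 5) (BT.leaf ⟨[(nat_lit 1), (nat_lit 1)], (nat_lit 1), (nat_lit 0), (nat_lit 0), (nat_lit 3)⟩) (BT.leaf ⟨[(nat_lit 3), (nat_lit 3)], (nat_lit 3), (nat_lit 0), (nat_lit 0), (nat_lit 3)⟩)) (BT.node (nat_lit 7) (BT.leaf ⟨[(nat_lit 4), (nat_lit 4)], (nat_lit 4), (nat_lit 0), (nat_lit 0), (nat_lit 3)⟩) (BT.node (nat_lit 8) (BT.leaf ⟨[(nat_lit 5), (nat_lit 5)], (nat_lit 5), (nat_lit 0), (nat_lit 0), (nat_lit 3)⟩) (BT.leaf ⟨[(nat_lit 6), (nat_lit 6)], (nat_lit 6), (nat_lit 0), (nat_lit 0), (nat_lit 3)⟩))))) (BT.node (nat_lit 14) (BT.node (nat_lit 11) (BT.node (nat_lit 10) (BT.leaf ⟨[(nat_lit 7), (nat_lit 7)], (nat_lit 7), (nat_lit 0), (nat_lit 0), (nat_lit 3)⟩) (BT.leaf ⟨[(nat_lit 11), (nat_lit 11)], (nat_lit 8), (nat_lit 0), (nat_lit 0), (nat_lit 3)⟩)) (BT.node (nat_lit 12) (BT.leaf ⟨[(nat_lit 8), (nat_lit 8)], (nat_lit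 9), (nat_lit 0), (nat_lit 0), (nat_lit 3)⟩) (BT.node (nat_lit 13) (BT.leaf ⟨[(nat_lit 12), (nat_lit 12)], (nat_lit 12), (nat_lit 0), (nat_lit 0), (nat_lit 3)⟩) (BT.leaf ⟨[(nat_lit 9), (nat_lit 9)], (nat_lit 10), (nat_lit 0), (nat_lit 0), (nat_lit 3)⟩)))) (BT.node (nat_lit 16) (BT.node (nat_lit 15) (BT.leaf ⟨[(nat_lit 10), (nat_lit 10)], (nat_lit 11), (nat_lit 0), (nat_lit 0), (nat_lit 3)⟩) (BT.leaf ⟨[(nat_lit 1), (nat_lit 3), (nat_lit 1), (nat_lit 3)], (nat_lit 14), (nat_lit 0), (nat_lit 0), (nat_lit 3)⟩)) (BT.node (nat_lit 17) (BT.leaf ⟨[(nat_lit 1), (nat_lit 4), (nat_lit 1), (nat_lit 4)], (nat_lit 15), (nat_lit 0), (nat_lit 0), (nat_lit 3)⟩) (BT.node (nat_lit 18) (BT.leaf ⟨[(nat_lit 2), (nat_lit 4), (nat_lit 2), (nat_lit 4)], (nat_lit 25), (nat_lit 0), (nat_lit 0), (nat_lit 3)⟩) (BT.leaf ⟨[(nat_lit 1), (nat_lit 5), (nat_lit 1), (nat_lit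 5)], (nat_lit 16), (nat_lit 0), (nat_lit 0), (nat_lit 3)⟩)))))) (BT.node (nat_lit 29) (BT.node (nat_lit 24) (BT.node (nat_lit 21) (BT.node (nat_lit 20) (BT.leaf ⟨[(nat_lit 2), (nat_lit 5), (nat_lit 2), (nat_lit 5)], (nat_lit 26), (nat_lit 0), (nat_lit 0), (nat_lit 3)⟩) (BT.leaf ⟨[(nat_lit 1), (nat_lit 6), (nat_lit 1), (nat_lit 6)], (nat_lit 17), (nat_lit 0), (nat_lit 0), (nat_lit 3)⟩)) (BT.node (nat_lit 22) (BT.leaf ⟨[(nat_lit 3), (nat_lit 5), (nat_lit 3), (nat_lit 5)], (nat_lit 35), (nat_lit 0), (nat_lit 0), (nat_lit 3)⟩) (BT.node (nat_lit 23) (BT.leaf ⟨[(nat_lit 2), (nat_lit 6), (nat_lit 2), (nat_lit 6)], (nat_lit 27), (nat_lit 0), (nat_lit 0), (nat_lit 3)⟩) (BT.leaf ⟨[(nat_lit 1), (nat_lit 7), (nat_lit 1), (nat_lit 7)], (nat_lit 18), (nat_lit 0), (nat_lit 0), (nat_lit 3)⟩)))) (BT.node (nat_lit 26) (BT.node (nat_lit 25) (BT.leaf ⟨[(nat_lit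 7), (nat_lit 11), (nat_lit 7), (nat_lit 11)], (nat_lit 64), (nat_lit 0), (nat_lit 0), (nat_lit 3)⟩) (BT.leaf ⟨[(nat_lit 1), (nat_lit 11), (nat_lit 1), (nat_lit 11)], (nat_lit 19), (nat_lit 0), (nat_lit 0), (nat_lit 3)⟩)) (BT.node (nat_lit 27) (BT.leaf ⟨[(nat_lit 3), (nat_lit 6), (nat_lit 3), (nat_lit 6)], (nat_lit 36), (nat_lit 0), (nat_lit 0), (nat_lit 3)⟩) (BT.node (nat_lit 28) (BT.leaf ⟨[(nat_lit 2), (nat_lit 7), (nat_lit 2), (nat_lit 7)], (nat_lit 28), (nat_lit 0), (nat_lit 0), (nat_lit 3)⟩) (BT.leaf ⟨[(nat_lit 2), (nat_lit 11), (nat_lit 2), (nat_lit 11)], (nat_lit 29), (nat_lit 0), (nat_lit 0), (nat_lit 3)⟩))))) (BT.node (nat_lit 34) (BT.node (nat_lit 31) (BT.node (nat_lit 30) (BT.leaf ⟨[(nat_lit 1), (nat_lit 8), (nat_lit 1), (nat_lit 8)], (nat_lit 20), (nat_lit 0), (nat_lit 0), (nat_lit 3)⟩) (BT.leaf ⟨[(nat_lit 8), (nat_lit 11),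 (nat_lit 8), (nat_lit 11)], (nat_lit 69), (nat_lit 1), (nat_lit 0), (nat_lit 3)⟩)) (BT.node (nat_lit 32) (BT.leaf ⟨[(nat_lit 1), (nat_lit 12), (nat_lit 1), (nat_lit 12)], (nat_lit 23), (nat_lit 0), (nat_lit 0), (nat_lit 3)⟩) (BT.node (nat_lit 33) (BT.leaf ⟨[(nat_lit 7), (nat_lit 12), (nat_lit 7), (nat_lit 12)], (nat_lit 68), (nat_lit 0), (nat_lit 0), (nat_lit 3)⟩) (BT.leaf ⟨[(nat_lit 4), (nat_lit 6), (nat_lit 4), (nat_lit 6)], (nat_lit 44), (nat_lit 0), (nat_lit 0), (nat_lit 3)⟩)))) (BT.node (nat_lit 36) (BT.node (nat_lit 35) (BT.leaf ⟨[(nat_lit 3), (nat_lit 7), (nat_lit 3), (nat_lit 7)], (nat_lit 37), (nat_lit 0), (nat_lit 0), (nat_lit 3)⟩) (BT.leaf ⟨[(nat_lit 3), (nat_lit 11), (nat_lit 3), (nat_lit 11)], (nat_lit 38), (nat_lit 0), (nat_lit 0), (nat_lit 3)⟩)) (BT.node (nat_lit 37) (BT.leaf ⟨[(nat_lit 2), (nat_lit 8), (nat_lit 2), (nat_lit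 8)], (nat_lit 30), (nat_lit 0), (nat_lit 0), (nat_lit 3)⟩) (BT.node (nat_lit 38) (BT.leaf ⟨[(nat_lit 2), (nat_lit 12), (nat_lit 2), (nat_lit 12)], (nat_lit 33), (nat_lit 0), (nat_lit 0), (nat_lit 3)⟩) (BT.leaf ⟨[(nat_lit 1), (nat_lit 9), (nat_lit 1), (nat_lit 9)], (nat_lit 21), (nat_lit 0), (nat_lit 0), (nat_lit 3)⟩))))))) (BT.node (nat_lit 59) (BT.node (nat_lit 49) (BT.node (nat_lit 44) (BT.node (nat_lit 41) (BT.node (nat_lit 40) (BT.leaf ⟨[(nat_lit 9), (nat_lit 11), (nat_lit 9), (nat_lit 11)], (nat_lit 70), (nat_lit 1), (nat_lit 0), (nat_lit 3)⟩) (BT.leaf ⟨[(nat_lit 8), (nat_lit 6), (nat_lit 8), (nat_lit 6)], (nat_lit 60), (nat_lit 1), (nat_lit 0), (nat_lit 3)⟩)) (BT.node (nat_lit 42) (BT.leaf ⟨[(nat_lit 6), (nat_lit 12), (nat_lit 6), (nat_lit 12)], (nat_lit 63), (nat_lit 0), (nat_lit 0), (nat_lit 3)⟩) (BT.node (nat_lit 43) (BT.leaf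 ⟨[(nat_lit 8), (nat_lit 12), (nat_lit 8), (nat_lit 12)], (nat_lit 75), (nat_lit 0), (nat_lit 0), (nat_lit 3)⟩) (BT.leaf ⟨[(nat_lit 4), (nat_lit 7), (nat_lit 4), (nat_lit 7)], (nat_lit 45), (nat_lit 0), (nat_lit 0), (nat_lit 3)⟩)))) (BT.node (nat_lit 46) (BT.node (nat_lit 45) (BT.leaf ⟨[(nat_lit 4), (nat_lit 11), (nat_lit 4), (nat_lit 11)], (nat_lit 46), (nat_lit 0), (nat_lit 0), (nat_lit 3)⟩) (BT.leaf ⟨[(nat_lit 3), (nat_lit 8), (nat_lit 3), (nat_lit 8)], (nat_lit 39), (nat_lit 0), (nat_lit 0), (nat_lit 3)⟩)) (BT.node (nat_lit 47) (BT.leaf ⟨[(nat_lit 3), (nat_lit 12), (nat_lit 3), (nat_lit 12)], (nat_lit 42), (nat_lit 0), (nat_lit 0), (nat_lit 3)⟩) (BT.node (nat_lit 48) (BT.leaf ⟨[(nat_lit 2), (nat_lit 9), (nat_lit 2), (nat_lit 9)], (nat_lit 31), (nat_lit 0), (nat_lit 0), (nat_lit 3)⟩) (BT.leaf ⟨[(nat_lit 1), (nat_lit 10), (nat_lit 1),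 (nat_lit 10)], (nat_lit 22), (nat_lit 0), (nat_lit 0), (nat_lit 3)⟩))))) (BT.node (nat_lit 54) (BT.node (nat_lit 51) (BT.node (nat_lit 50) (BT.leaf ⟨[(nat_lit 10), (nat_lit 11), (nat_lit 10), (nat_lit 11)], (nat_lit 71), (nat_lit 1), (nat_lit 0), (nat_lit 3)⟩) (BT.leaf ⟨[(nat_lit 9), (nat_lit 6), (nat_lit 9), (nat_lit 6)], (nat_lit 61), (nat_lit 1), (nat_lit 0), (nat_lit 3)⟩)) (BT.node (nat_lit 52) (BT.leaf ⟨[(nat_lit 9), (nat_lit 12), (nat_lit 9), (nat_lit 12)], (nat_lit 77), (nat_lit 0), (nat_lit 0), (nat_lit 3)⟩) (BT.node (nat_lit 53) (BT.leaf ⟨[(nat_lit 8), (nat_lit 5), (nat_lit 8), (nat_lit 5)], (nat_lit 54), (nat_lit 1), (nat_lit 0), (nat_lit 3)⟩) (BT.leaf ⟨[(nat_lit 5), (nat_lit 12), (nat_lit 5), (nat_lit 12)], (nat_lit 57), (nat_lit 0), (nat_lit 0), (nat_lit 3)⟩)))) (BT.node (nat_lit 56) (BT.node (nat_lit 55) (BT.leaf ⟨[(nat_lit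 5), (nat_lit 7), (nat_lit 5), (nat_lit 7)], (nat_lit 52), (nat_lit 0), (nat_lit 0), (nat_lit 3)⟩) (BT.leaf ⟨[(nat_lit 5), (nat_lit 11), (nat_lit 5), (nat_lit 11)], (nat_lit 53), (nat_lit 0), (nat_lit 0), (nat_lit 3)⟩)) (BT.node (nat_lit 57) (BT.leaf ⟨[(nat_lit 4), (nat_lit 8), (nat_lit 4), (nat_lit 8)], (nat_lit 47), (nat_lit 0), (nat_lit 0), (nat_lit 3)⟩) (BT.node (nat_lit 58) (BT.leaf ⟨[(nat_lit 4), (nat_lit 12), (nat_lit 4), (nat_lit 12)], (nat_lit 50), (nat_lit 0), (nat_lit 0), (nat_lit 3)⟩) (BT.leaf ⟨[(nat_lit 3), (nat_lit 9), (nat_lit 3), (nat_lit 9)], (nat_lit 40), (nat_lit 0), (nat_lit 0), (nat_lit 3)⟩)))))) (BT.node (nat_lit 69) (BT.node (nat_lit 64) (BT.node (nat_lit 61) (BT.node (nat_lit 60) (BT.leaf ⟨[(nat_lit 2), (nat_lit 10), (nat_lit 2), (nat_lit 10)], (nat_lit 32), (nat_lit 0), (nat_lit 0), (nat_lit 3)⟩) (BT.leaf ⟨[(nat_lit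 10), (nat_lit 6), (nat_lit 10), (nat_lit 6)], (nat_lit 62), (nat_lit 1), (nat_lit 0), (nat_lit 3)⟩)) (BT.node (nat_lit 62) (BT.leaf ⟨[(nat_lit 10), (nat_lit 12), (nat_lit 10), (nat_lit 12)], (nat_lit 78), (nat_lit 0), (nat_lit 0), (nat_lit 3)⟩) (BT.node (nat_lit 63) (BT.leaf ⟨[(nat_lit 9), (nat_lit 5), (nat_lit 9), (nat_lit 5)], (nat_lit 55), (nat_lit 1), (nat_lit 0), (nat_lit 3)⟩) (BT.leaf ⟨[(nat_lit 9), (nat_lit 7), (nat_lit 9), (nat_lit 7)], (nat_lit 66), (nat_lit 1), (nat_lit 0), (nat_lit 3)⟩)))) (BT.node (nat_lit 66) (BT.node (nat_lit 65) (BT.leaf ⟨[(nat_lit 8), (nat_lit 4), (nat_lit 8), (nat_lit 4)], (nat_lit 47), (nat_lit 1), (nat_lit 0), (nat_lit 3)⟩) (BT.leaf ⟨[(nat_lit 5), (nat_lit 8), (nat_lit 5), (nat_lit 8)], (nat_lit 54), (nat_lit 0), (nat_lit 0), (nat_lit 3)⟩)) (BT.node (nat_lit 67) (BT.leaf ⟨[(nat_lit 4), (nat_lit 9),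 (nat_lit 4), (nat_lit 9)], (nat_lit 48), (nat_lit 0), (nat_lit 0), (nat_lit 3)⟩) (BT.node (nat_lit 68) (BT.leaf ⟨[(nat_lit 3), (nat_lit 10), (nat_lit 3), (nat_lit 10)], (nat_lit 41), (nat_lit 0), (nat_lit 0), (nat_lit 3)⟩) (BT.leaf ⟨[(nat_lit 10), (nat_lit 5), (nat_lit 10), (nat_lit 5)], (nat_lit 56), (nat_lit 1), (nat_lit 0), (nat_lit 3)⟩))))) (BT.node (nat_lit 74) (BT.node (nat_lit 71) (BT.node (nat_lit 70) (BT.leaf ⟨[(nat_lit 10), (nat_lit 7), (nat_lit 10), (nat_lit 7)], (nat_lit 67), (nat_lit 1), (nat_lit 0), (nat_lit 3)⟩) (BT.leaf ⟨[(nat_lit 9), (nat_lit 4), (nat_lit 9), (nat_lit 4)], (nat_lit 48), (nat_lit 1), (nat_lit 0), (nat_lit 3)⟩)) (BT.node (nat_lit 72) (BT.leaf ⟨[(nat_lit 8), (nat_lit 3), (nat_lit 8), (nat_lit 3)], (nat_lit 39), (nat_lit 1), (nat_lit 0), (nat_lit 3)⟩) (BT.node (nat_lit 73) (BT.leaf ⟨[(nat_lit 6), (nat_lit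 8), (nat_lit 6), (nat_lit 8)], (nat_lit 60), (nat_lit 0), (nat_lit 0), (nat_lit 3)⟩) (BT.leaf ⟨[(nat_lit 5), (nat_lit 9), (nat_lit 5), (nat_lit 9)], (nat_lit 55), (nat_lit 0), (nat_lit 0), (nat_lit 3)⟩)))) (BT.node (nat_lit 76) (BT.node (nat_lit 75) (BT.leaf ⟨[(nat_lit 4), (nat_lit 10), (nat_lit 4), (nat_lit 10)], (nat_lit 49), (nat_lit 0), (nat_lit 0), (nat_lit 3)⟩) (BT.leaf ⟨[(nat_lit 10), (nat_lit 4), (nat_lit 10), (nat_lit 4)], (nat_lit 49), (nat_lit 1), (nat_lit 0), (nat_lit 3)⟩)) (BT.node (nat_lit 77) (BT.leaf ⟨[(nat_lit 10), (nat_lit 8), (nat_lit 10), (nat_lit 8)], (nat_lit 74), (nat_lit 1), (nat_lit 0), (nat_lit 3)⟩) (BT.node (nat_lit 78) (BT.leaf ⟨[(nat_lit 9), (nat_lit 3), (nat_lit 9), (nat_lit 3)], (nat_lit 40), (nat_lit 1), (nat_lit 0), (nat_lit 3)⟩) (BT.leaf ⟨[(nat_lit 8), (nat_lit 2), (nat_lit 8), (nat_lit 2)], (nat_lit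 30), (nat_lit 1), (nat_lit 0), (nat_lit 3)⟩)))))))) (BT.node (nat_lit 118) (BT.node (nat_lit 98) (BT.node (nat_lit 88) (BT.node (nat_lit 83) (BT.node (nat_lit 81) (BT.node (nat_lit 80) (BT.leaf ⟨[(nat_lit 6), (nat_lit 9), (nat_lit 6), (nat_lit 9)], (nat_lit 61), (nat_lit 0), (nat_lit 0), (nat_lit 3)⟩) (BT.leaf ⟨[(nat_lit 5), (nat_lit 10), (nat_lit 5), (nat_lit 10)], (nat_lit 56), (nat_lit 0), (nat_lit 0), (nat_lit 3)⟩)) (BT.node (nat_lit 82) (BT.leaf ⟨[(nat_lit 10), (nat_lit 3), (nat_lit 10), (nat_lit 3)], (nat_lit 41), (nat_lit 1), (nat_lit 0), (nat_lit 3)⟩) (BT.leaf ⟨[(nat_lit 9), (nat_lit 2), (nat_lit 9), (nat_lit 2)], (nat_lit 31), (nat_lit 1), (nat_lit 0), (nat_lit 3)⟩))) (BT.node (nat_lit 85) (BT.node (nat_lit 84) (BT.leaf ⟨[(nat_lit 7), (nat_lit 9), (nat_lit 7), (nat_lit 9)], (nat_lit 66), (nat_lit 0), (nat_lit 0), (nat_lit 3)⟩)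 (BT.leaf ⟨[(nat_lit 6), (nat_lit 10), (nat_lit 6), (nat_lit 10)], (nat_lit 62), (nat_lit 0), (nat_lit 0), (nat_lit 3)⟩)) (BT.node (nat_lit 86) (BT.leaf ⟨[(nat_lit 10), (nat_lit 2), (nat_lit 10), (nat_lit 2)], (nat_lit 32), (nat_lit 1), (nat_lit 0), (nat_lit 3)⟩) (BT.node (nat_lit 87) (BT.leaf ⟨[(nat_lit 7), (nat_lit 10), (nat_lit 7), (nat_lit 10)], (nat_lit 67), (nat_lit 0), (nat_lit 0), (nat_lit 3)⟩) (BT.leaf ⟨[(nat_lit 8), (nat_lit 10), (nat_lit 8), (nat_lit 10)], (nat_lit 74), (nat_lit 0), (nat_lit 0), (nat_lit 3)⟩))))) (BT.node (nat_lit 93) (BT.node (nat_lit 90) (BT.node (nat_lit 89) (BT.leaf ⟨[(nat_lit 9), (nat_lit 1), (nat_lit 9), (nat_lit 1)], (nat_lit 21), (nat_lit 1), (nat_lit 0), (nat_lit 3)⟩) (BT.leaf ⟨[(nat_lit 8), (nat_lit 1), (nat_lit 8), (nat_lit 1)], (nat_lit 20), (nat_lit 1), (nat_lit 0), (nat_lit 3)⟩)) (BT.node (nat_lit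 91) (BT.leaf ⟨[(nat_lit 10), (nat_lit 1), (nat_lit 10), (nat_lit 1)], (nat_lit 22), (nat_lit 1), (nat_lit 0), (nat_lit 3)⟩) (BT.node (nat_lit 92) (BT.leaf ⟨[(nat_lit 12), (nat_lit 11), (nat_lit 12), (nat_lit 11), (nat_lit 12), (nat_lit 11)], (nat_lit 72), (nat_lit 1), (nat_lit 0), (nat_lit 3)⟩) (BT.leaf ⟨[(nat_lit 12), (nat_lit 1), (nat_lit 12), (nat_lit 1)], (nat_lit 23), (nat_lit 1), (nat_lit 0), (nat_lit 3)⟩)))) (BT.node (nat_lit 95) (BT.node (nat_lit 94) (BT.leaf ⟨[(nat_lit 12), (nat_lit 4), (nat_lit 12), (nat_lit 4)], (nat_lit 50), (nat_lit 1), (nat_lit 0), (nat_lit 3)⟩) (BT.leaf ⟨[(nat_lit 12), (nat_lit 6), (nat_lit 12), (nat_lit 6)], (nat_lit 63), (nat_lit 1), (nat_lit 0), (nat_lit 3)⟩)) (BT.node (nat_lit 96) (BT.leaf ⟨[(nat_lit 12), (nat_lit 9), (nat_lit 12), (nat_lit 9)], (nat_lit 77), (nat_lit 1), (nat_lit 0), (nat_lit 3)⟩)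 (BT.node (nat_lit 97) (BT.leaf ⟨[(nat_lit 12), (nat_lit 2), (nat_lit 12), (nat_lit 2)], (nat_lit 33), (nat_lit 1), (nat_lit 0), (nat_lit 3)⟩) (BT.leaf ⟨[(nat_lit 12), (nat_lit 5), (nat_lit 12), (nat_lit 5)], (nat_lit 57), (nat_lit 1), (nat_lit 0), (nat_lit 3)⟩)))))) (BT.node (nat_lit 108) (BT.node (nat_lit 103) (BT.node (nat_lit 100) (BT.node (nat_lit 99) (BT.leaf ⟨[(nat_lit 12), (nat_lit 7), (nat_lit 12), (nat_lit 7)], (nat_lit 68), (nat_lit 1), (nat_lit 0), (nat_lit 3)⟩) (BT.leaf ⟨[(nat_lit 12), (nat_lit 8), (nat_lit 12), (nat_lit 8)], (nat_lit 75), (nat_lit 1), (nat_lit 0), (nat_lit 3)⟩)) (BT.node (nat_lit 101) (BT.leaf ⟨[(nat_lit 12), (nat_lit 10), (nat_lit 12), (nat_lit 10)], (nat_lit 78), (nat_lit 1), (nat_lit 0), (nat_lit 3)⟩) (BT.node (nat_lit 102) (BT.leaf ⟨[(nat_lit 12), (nat_lit 3), (nat_lit 12), (nat_lit 3)], (nat_lit 42),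 (nat_lit 1), (nat_lit 0), (nat_lit 3)⟩) (BT.leaf ⟨[(nat_lit 11), (nat_lit 6), (nat_lit 11), (nat_lit 6), (nat_lit 11), (nat_lit 6)], (nat_lit 59), (nat_lit 1), (nat_lit 0), (nat_lit 3)⟩)))) (BT.node (nat_lit 105) (BT.node (nat_lit 104) (BT.leaf ⟨[(nat_lit 11), (nat_lit 1), (nat_lit 11), (nat_lit 1)], (nat_lit 19), (nat_lit 1), (nat_lit 0), (nat_lit 3)⟩) (BT.leaf ⟨[(nat_lit 11), (nat_lit 4), (nat_lit 11), (nat_lit 4)], (nat_lit 46), (nat_lit 1), (nat_lit 0), (nat_lit 3)⟩)) (BT.node (nat_lit 106) (BT.leaf ⟨[(nat_lit 11), (nat_lit 5), (nat_lit 11), (nat_lit 5)], (nat_lit 53), (nat_lit 1), (nat_lit 0), (nat_lit 3)⟩) (BT.node (nat_lit 107) (BT.leaf ⟨[(nat_lit 11), (nat_lit 7), (nat_lit 11), (nat_lit 7)], (nat_lit 64), (nat_lit 1), (nat_lit 0), (nat_lit 3)⟩) (BT.leaf ⟨[(nat_lit 11), (nat_lit 9), (nat_lit 11), (nat_lit 9)], (nat_lit 70), (nat_lit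 0), (nat_lit 0), (nat_lit 3)⟩))))) (BT.node (nat_lit 113) (BT.node (nat_lit 110) (BT.node (nat_lit 109) (BT.leaf ⟨[(nat_lit 11), (nat_lit 2), (nat_lit 11), (nat_lit 2)], (nat_lit 29), (nat_lit 1), (nat_lit 0), (nat_lit 3)⟩) (BT.leaf ⟨[(nat_lit 11), (nat_lit 3), (nat_lit 11), (nat_lit 3)], (nat_lit 38), (nat_lit 1), (nat_lit 0), (nat_lit 3)⟩)) (BT.node (nat_lit 111) (BT.leaf ⟨[(nat_lit 11), (nat_lit 8), (nat_lit 11), (nat_lit 8)], (nat_lit 69), (nat_lit 0), (nat_lit 0), (nat_lit 3)⟩) (BT.node (nat_lit 112) (BT.leaf ⟨[(nat_lit 11), (nat_lit 10), (nat_lit 11), (nat_lit 10)], (nat_lit 71), (nat_lit 0), (nat_lit 0), (nat_lit 3)⟩) (BT.leaf ⟨[(nat_lit 6), (nat_lit 7), (nat_lit 6), (nat_lit 7), (nat_lit 6), (nat_lit 7)], (nat_lit 58), (nat_lit 0), (nat_lit 0), (nat_lit 3)⟩)))) (BT.node (nat_lit 115) (BT.node (nat_lit 114) (BT.leaf ⟨[(nat_lit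 6), (nat_lit 1), (nat_lit 6), (nat_lit 1)], (nat_lit 17), (nat_lit 1), (nat_lit 0), (nat_lit 3)⟩) (BT.leaf ⟨[(nat_lit 6), (nat_lit 4), (nat_lit 6), (nat_lit 4)], (nat_lit 44), (nat_lit 1), (nat_lit 0), (nat_lit 3)⟩)) (BT.node (nat_lit 116) (BT.leaf ⟨[(nat_lit 6), (nat_lit 2), (nat_lit 6), (nat_lit 2)], (nat_lit 27), (nat_lit 1), (nat_lit 0), (nat_lit 3)⟩) (BT.node (nat_lit 117) (BT.leaf ⟨[(nat_lit 6), (nat_lit 3), (nat_lit 6), (nat_lit 3)], (nat_lit 36), (nat_lit 1), (nat_lit 0), (nat_lit 3)⟩) (BT.leaf ⟨[(nat_lit 6), (nat_lit 5), (nat_lit 6), (nat_lit 5), (nat_lit 6), (nat_lit 5)], (nat_lit 51), (nat_lit 1), (nat_lit 0), (nat_lit 3)⟩))))))) (BT.node (nat_lit 138) (BT.node (nat_lit 128) (BT.node (nat_lit 123) (BT.node (nat_lit 120) (BT.node (nat_lit 119) (BT.leaf ⟨[(nat_lit 7), (nat_lit 8), (nat_lit 7), (nat_lit 8), (nat_lit 7), (nat_lit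 8)], (nat_lit 65), (nat_lit 0), (nat_lit 0), (nat_lit 3)⟩) (BT.leaf ⟨[(nat_lit 7), (nat_lit 1), (nat_lit 7), (nat_lit 1)], (nat_lit 18), (nat_lit 1), (nat_lit 0), (nat_lit 3)⟩)) (BT.node (nat_lit 121) (BT.leaf ⟨[(nat_lit 7), (nat_lit 4), (nat_lit 7), (nat_lit 4)], (nat_lit 45), (nat_lit 1), (nat_lit 0), (nat_lit 3)⟩) (BT.node (nat_lit 122) (BT.leaf ⟨[(nat_lit 7), (nat_lit 2), (nat_lit 7), (nat_lit 2)], (nat_lit 28), (nat_lit 1), (nat_lit 0), (nat_lit 3)⟩) (BT.leaf ⟨[(nat_lit 7), (nat_lit 3), (nat_lit 7), (nat_lit 3)], (nat_lit 37), (nat_lit 1), (nat_lit 0), (nat_lit 3)⟩)))) (BT.node (nat_lit 125) (BT.node (nat_lit 124) (BT.leaf ⟨[(nat_lit 5), (nat_lit 4), (nat_lit 5), (nat_lit 4), (nat_lit 5), (nat_lit 4)], (nat_lit 43), (nat_lit 1), (nat_lit 0), (nat_lit 3)⟩) (BT.leaf ⟨[(nat_lit 5), (nat_lit 1), (nat_lit 5), (nat_lit 1)], (nat_lit 16),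 (nat_lit 1), (nat_lit 0), (nat_lit 3)⟩)) (BT.node (nat_lit 126) (BT.leaf ⟨[(nat_lit 5), (nat_lit 3), (nat_lit 5), (nat_lit 3)], (nat_lit 35), (nat_lit 1), (nat_lit 0), (nat_lit 3)⟩) (BT.node (nat_lit 127) (BT.leaf ⟨[(nat_lit 5), (nat_lit 2), (nat_lit 5), (nat_lit 2)], (nat_lit 26), (nat_lit 1), (nat_lit 0), (nat_lit 3)⟩) (BT.leaf ⟨[(nat_lit 8), (nat_lit 9), (nat_lit 8), (nat_lit 9), (nat_lit 8), (nat_lit 9)], (nat_lit 73), (nat_lit 0), (nat_lit 0), (nat_lit 3)⟩))))) (BT.node (nat_lit 133) (BT.node (nat_lit 130) (BT.node (nat_lit 129) (BT.leaf ⟨[(nat_lit 7), (nat_lit 5), (nat_lit 7), (nat_lit 5)], (nat_lit 52), (nat_lit 1), (nat_lit 0), (nat_lit 3)⟩) (BT.leaf ⟨[(nat_lit 4), (nat_lit 3), (nat_lit 4), (nat_lit 3), (nat_lit 4), (nat_lit 3)], (nat_lit 34), (nat_lit 1), (nat_lit 0), (nat_lit 3)⟩)) (BT.node (nat_lit 131) (BT.leaf ⟨[(nat_lit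 4), (nat_lit 2), (nat_lit 4), (nat_lit 2)], (nat_lit 25), (nat_lit 1), (nat_lit 0), (nat_lit 3)⟩) (BT.node (nat_lit 132) (BT.leaf ⟨[(nat_lit 4), (nat_lit 1), (nat_lit 4), (nat_lit 1)], (nat_lit 15), (nat_lit 1), (nat_lit 0), (nat_lit 3)⟩) (BT.leaf ⟨[(nat_lit 3), (nat_lit 2), (nat_lit 3), (nat_lit 2), (nat_lit 3), (nat_lit 2)], (nat_lit 24), (nat_lit 1), (nat_lit 0), (nat_lit 3)⟩)))) (BT.node (nat_lit 135) (BT.node (nat_lit 134) (BT.leaf ⟨[(nat_lit 3), (nat_lit 1), (nat_lit 3), (nat_lit 1)], (nat_lit 14), (nat_lit 1), (nat_lit 0), (nat_lit 3)⟩) (BT.leaf ⟨[(nat_lit 9), (nat_lit 10), (nat_lit 9), (nat_lit 10), (nat_lit 9), (nat_lit 10)], (nat_lit 76), (nat_lit 0), (nat_lit 0), (nat_lit 3)⟩)) (BT.node (nat_lit 136) (BT.leaf ⟨[(nat_lit 7), (nat_lit 6), (nat_lit 7), (nat_lit 6), (nat_lit 7), (nat_lit 6)], (nat_lit 58), (nat_lit 1), (nat_lit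 0), (nat_lit 3)⟩) (BT.node (nat_lit 137) (BT.leaf ⟨[(nat_lit 5), (nat_lit 6), (nat_lit 5), (nat_lit 6), (nat_lit 5), (nat_lit 6)], (nat_lit 51), (nat_lit 0), (nat_lit 0), (nat_lit 3)⟩) (BT.leaf ⟨[(nat_lit 2), (nat_lit 1), (nat_lit 2), (nat_lit 1), (nat_lit 2), (nat_lit 1)], (nat_lit 13), (nat_lit 1), (nat_lit 0), (nat_lit 3)⟩)))))) (BT.node (nat_lit 148) (BT.node (nat_lit 143) (BT.node (nat_lit 140) (BT.node (nat_lit 139) (BT.leaf ⟨[(nat_lit 6), (nat_lit 11), (nat_lit 6), (nat_lit 11), (nat_lit 6), (nat_lit 11)], (nat_lit 59), (nat_lit 0), (nat_lit 0), (nat_lit 3)⟩) (BT.leaf ⟨[(nat_lit 8), (nat_lit 7), (nat_lit 8), (nat_lit 7), (nat_lit 8), (nat_lit 7)], (nat_lit 65), (nat_lit 1), (nat_lit 0), (nat_lit 3)⟩)) (BT.node (nat_lit 141) (BT.leaf ⟨[(nat_lit 11), (nat_lit 12), (nat_lit 11), (nat_lit 12), (nat_lit 11), (nat_lit 12)], (nat_lit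 72), (nat_lit 0), (nat_lit 0), (nat_lit 3)⟩) (BT.node (nat_lit 142) (BT.leaf ⟨[(nat_lit 4), (nat_lit 5), (nat_lit 4), (nat_lit 5), (nat_lit 4), (nat_lit 5)], (nat_lit 43), (nat_lit 0), (nat_lit 0), (nat_lit 3)⟩) (BT.leaf ⟨[(nat_lit 9), (nat_lit 8), (nat_lit 9), (nat_lit 8), (nat_lit 9), (nat_lit 8)], (nat_lit 73), (nat_lit 1), (nat_lit 0), (nat_lit 3)⟩)))) (BT.node (nat_lit 145) (BT.node (nat_lit 144) (BT.leaf ⟨[(nat_lit 3), (nat_lit 4), (nat_lit 3), (nat_lit 4), (nat_lit 3), (nat_lit 4)], (nat_lit 34), (nat_lit 0), (nat_lit 0), (nat_lit 3)⟩) (BT.leaf ⟨[(nat_lit 2), (nat_lit 3), (nat_lit 2), (nat_lit 3), (nat_lit 2), (nat_lit 3)], (nat_lit 24), (nat_lit 0), (nat_lit 0), (nat_lit 3)⟩)) (BT.node (nat_lit 146) (BT.leaf ⟨[(nat_lit 10), (nat_lit 9), (nat_lit 10), (nat_lit 9), (nat_lit 10), (nat_lit 9)], (nat_lit 76), (nat_lit 1), (nat_lit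 0), (nat_lit 3)⟩) (BT.node (nat_lit 147) (BT.leaf ⟨[(nat_lit 1), (nat_lit 2), (nat_lit 1), (nat_lit 2), (nat_lit 1), (nat_lit 2)], (nat_lit 13), (nat_lit 0), (nat_lit 0), (nat_lit 3)⟩) (BT.leaf ⟨[(nat_lit 5), (nat_lit 4), (nat_lit 3), (nat_lit 11), (nat_lit 8), (nat_lit 7), (nat_lit 6), (nat_lit 5), (nat_lit 4), (nat_lit 3), (nat_lit 11), (nat_lit 8), (nat_lit 7), (nat_lit 6), (nat_lit 5), (nat_lit 4), (nat_lit 3), (nat_lit 11), (nat_lit 8), (nat_lit 7), (nat_lit 6), (nat_lit 5), (nat_lit 4), (nat_lit 3), (nat_lit 1), (nat_lit 11), (nat_lit 8), (nat_lit 7), (nat_lit 6), (nat_lit 5), (nat_lit 4), (nat_lit 3), (nat_lit 11), (nat_lit 8), (nat_lit 7), (nat_lit 6), (nat_lit 5), (nat_lit 4), (nat_lit 3), (nat_lit 11), (nat_lit 8), (nat_lit 7), (nat_lit 6), (nat_lit 5), (nat_lit 4), (nat_lit 3), (nat_lit 11), (nat_lit 8), (nat_lit 7), (nat_lit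 6), (nat_lit 5), (nat_lit 4), (nat_lit 3), (nat_lit 11), (nat_lit 8), (nat_lit 7), (nat_lit 6), (nat_lit 5), (nat_lit 4), (nat_lit 3), (nat_lit 11), (nat_lit 8), (nat_lit 7), (nat_lit 6)], (nat_lit 79), (nat_lit 40), (nat_lit 0), (nat_lit 3)⟩))))) (BT.node (nat_lit 153) (BT.node (nat_lit 150) (BT.node (nat_lit 149) (BT.leaf ⟨[(nat_lit 5), (nat_lit 4), (nat_lit 3), (nat_lit 11), (nat_lit 8), (nat_lit 7), (nat_lit 6), (nat_lit 5), (nat_lit 4), (nat_lit 3), (nat_lit 11), (nat_lit 8), (nat_lit 7), (nat_lit 6), (nat_lit 5), (nat_lit 4), (nat_lit 3), (nat_lit 11), (nat_lit 8), (nat_lit 7), (nat_lit 6), (nat_lit 5), (nat_lit 4), (nat_lit 3), (nat_lit 11), (nat_lit 8), (nat_lit 7), (nat_lit 6), (nat_lit 5), (nat_lit 4), (nat_lit 3), (nat_lit 11), (nat_lit 8), (nat_lit 7), (nat_lit 6), (nat_lit 5), (nat_lit 4), (nat_lit 3), (nat_lit 11), (nat_lit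 8), (nat_lit 7), (nat_lit 6), (nat_lit 5), (nat_lit 4), (nat_lit 3), (nat_lit 11), (nat_lit 8), (nat_lit 7), (nat_lit 6), (nat_lit 5), (nat_lit 4), (nat_lit 3), (nat_lit 11), (nat_lit 8), (nat_lit 7), (nat_lit 6), (nat_lit 5), (nat_lit 4), (nat_lit 3), (nat_lit 1), (nat_lit 11), (nat_lit 8), (nat_lit 7), (nat_lit 6)], (nat_lit 79), (nat_lit 5), (nat_lit 0), (nat_lit 3)⟩) (BT.leaf ⟨[(nat_lit 8), (nat_lit 7), (nat_lit 6), (nat_lit 5), (nat_lit 4), (nat_lit 3), (nat_lit 11), (nat_lit 8), (nat_lit 7), (nat_lit 6), (nat_lit 5), (nat_lit 4), (nat_lit 3), (nat_lit 11), (nat_lit 8), (nat_lit 7), (nat_lit 6), (nat_lit 5), (nat_lit 4), (nat_lit 3), (nat_lit 11), (nat_lit 8), (nat_lit 7), (nat_lit 6), (nat_lit 5), (nat_lit 4), (nat_lit 3), (nat_lit 1), (nat_lit 11), (nat_lit 8), (nat_lit 7), (nat_lit 6), (nat_lit 5), (nat_lit 4), (nat_lit 3), (nat_lit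 11), (nat_lit 8), (nat_lit 7), (nat_lit 6), (nat_lit 5), (nat_lit 4), (nat_lit 3), (nat_lit 11), (nat_lit 8), (nat_lit 7), (nat_lit 6), (nat_lit 5), (nat_lit 4), (nat_lit 3), (nat_lit 11), (nat_lit 8), (nat_lit 7), (nat_lit 6), (nat_lit 5), (nat_lit 4), (nat_lit 3), (nat_lit 11), (nat_lit 8), (nat_lit 7), (nat_lit 6), (nat_lit 5), (nat_lit 4), (nat_lit 3), (nat_lit 11)], (nat_lit 79), (nat_lit 37), (nat_lit 0), (nat_lit 3)⟩)) (BT.node (nat_lit 151) (BT.leaf ⟨[(nat_lit 8), (nat_lit 7), (nat_lit 6), (nat_lit 5), (nat_lit 4), (nat_lit 3), (nat_lit 11), (nat_lit 8), (nat_lit 7), (nat_lit 6), (nat_lit 5), (nat_lit 4), (nat_lit 3), (nat_lit 11), (nat_lit 8), (nat_lit 7), (nat_lit 6), (nat_lit 5), (nat_lit 4), (nat_lit 3), (nat_lit 11), (nat_lit 8), (nat_lit 7), (nat_lit 6), (nat_lit 5), (nat_lit 4), (nat_lit 3), (nat_lit 11), (nat_lit 8), (nat_lit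 7), (nat_lit 6), (nat_lit 5), (nat_lit 4), (nat_lit 3), (nat_lit 11), (nat_lit 8), (nat_lit 7), (nat_lit 6), (nat_lit 5), (nat_lit 4), (nat_lit 3), (nat_lit 11), (nat_lit 8), (nat_lit 7), (nat_lit 6), (nat_lit 5), (nat_lit 4), (nat_lit 3), (nat_lit 11), (nat_lit 8), (nat_lit 7), (nat_lit 6), (nat_lit 5), (nat_lit 4), (nat_lit 3), (nat_lit 11), (nat_lit 8), (nat_lit 7), (nat_lit 6), (nat_lit 5), (nat_lit 4), (nat_lit 3), (nat_lit 1), (nat_lit 11)], (nat_lit 79), (nat_lit 2), (nat_lit 0), (nat_lit 3)⟩) (BT.node (nat_lit 152) (BT.leaf ⟨[(nat_lit 4), (nat_lit 3), (nat_lit 11), (nat_lit 8), (nat_lit 7), (nat_lit 6), (nat_lit 5), (nat_lit 4), (nat_lit 3), (nat_lit 11), (nat_lit 8), (nat_lit 7), (nat_lit 6), (nat_lit 5), (nat_lit 4), (nat_lit 3), (nat_lit 1), (nat_lit 11), (nat_lit 8), (nat_lit 7), (nat_lit 6), (nat_lit 5), (nat_lit 4), (nat_lit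 3), (nat_lit 11), (nat_lit 8), (nat_lit 7), (nat_lit 6), (nat_lit 5), (nat_lit 4), (nat_lit 3), (nat_lit 11), (nat_lit 8), (nat_lit 7), (nat_lit 6), (nat_lit 5), (nat_lit 4), (nat_lit 3), (nat_lit 11), (nat_lit 8), (nat_lit 7), (nat_lit 6), (nat_lit 5), (nat_lit 4), (nat_lit 3), (nat_lit 11), (nat_lit 8), (nat_lit 7), (nat_lit 6), (nat_lit 5), (nat_lit 4), (nat_lit 3), (nat_lit 11), (nat_lit 8), (nat_lit 7), (nat_lit 6), (nat_lit 5), (nat_lit 4), (nat_lit 3), (nat_lit 11), (nat_lit 8), (nat_lit 7), (nat_lit 6), (nat_lit 5)], (nat_lit 79), (nat_lit 48), (nat_lit 0), (nat_lit 3)⟩) (BT.leaf ⟨[(nat_lit 4), (nat_lit 3), (nat_lit 11), (nat_lit 8), (nat_lit 7), (nat_lit 6), (nat_lit 5), (nat_lit 4), (nat_lit 3), (nat_lit 11), (nat_lit 8), (nat_lit 7), (nat_lit 6), (nat_lit 5), (nat_lit 4), (nat_lit 3), (nat_lit 11), (nat_lit 8), (nat_lit 7),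 (nat_lit 6), (nat_lit 5), (nat_lit 4), (nat_lit 3), (nat_lit 11), (nat_lit 8), (nat_lit 7), (nat_lit 6), (nat_lit 5), (nat_lit 4), (nat_lit 3), (nat_lit 1), (nat_lit 11), (nat_lit 8), (nat_lit 7), (nat_lit 6), (nat_lit 5), (nat_lit 4), (nat_lit 3), (nat_lit 11), (nat_lit 8), (nat_lit 7), (nat_lit 6), (nat_lit 5), (nat_lit 4), (nat_lit 3), (nat_lit 11), (nat_lit 8), (nat_lit 7), (nat_lit 6), (nat_lit 5), (nat_lit 4), (nat_lit 3), (nat_lit 11), (nat_lit 8), (nat_lit 7), (nat_lit 6), (nat_lit 5), (nat_lit 4), (nat_lit 3), (nat_lit 11), (nat_lit 8), (nat_lit 7), (nat_lit 6), (nat_lit 5)], (nat_lit 79), (nat_lit 34), (nat_lit 0), (nat_lit 3)⟩)))) (BT.node (nat_lit 155) (BT.node (nat_lit 154) (BT.leaf ⟨[(nat_lit 6), (nat_lit 7), (nat_lit 8), (nat_lit 6), (nat_lit 11), (nat_lit 12), (nat_lit 6), (nat_lit 5), (nat_lit 4), (nat_lit 6), (nat_lit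 7), (nat_lit 8), (nat_lit 6), (nat_lit 11), (nat_lit 12), (nat_lit 6), (nat_lit 5), (nat_lit 4), (nat_lit 6), (nat_lit 7), (nat_lit 8), (nat_lit 6), (nat_lit 11), (nat_lit 12), (nat_lit 6), (nat_lit 5), (nat_lit 4), (nat_lit 6), (nat_lit 7), (nat_lit 8), (nat_lit 6), (nat_lit 11), (nat_lit 12), (nat_lit 6), (nat_lit 5), (nat_lit 4), (nat_lit 6), (nat_lit 7), (nat_lit 8), (nat_lit 6), (nat_lit 11), (nat_lit 12), (nat_lit 6), (nat_lit 5), (nat_lit 4), (nat_lit 6), (nat_lit 7), (nat_lit 8), (nat_lit 6), (nat_lit 11), (nat_lit 12), (nat_lit 6), (nat_lit 5), (nat_lit 4), (nat_lit 6), (nat_lit 7), (nat_lit 8), (nat_lit 6), (nat_lit 11), (nat_lit 12), (nat_lit 6), (nat_lit 5), (nat_lit 4), (nat_lit 6), (nat_lit 7), (nat_lit 8), (nat_lit 6), (nat_lit 11), (nat_lit 12), (nat_lit 6), (nat_lit 5), (nat_lit 4), (nat_lit 6), (nat_lit 7), (nat_lit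 8), (nat_lit 6), (nat_lit 11), (nat_lit 12), (nat_lit 6), (nat_lit 5), (nat_lit 4), (nat_lit 6), (nat_lit 7), (nat_lit 8), (nat_lit 6), (nat_lit 11), (nat_lit 12), (nat_lit 6), (nat_lit 5), (nat_lit 4)], (nat_lit 0), (nat_lit 3), (nat_lit 0), (nat_lit 3)⟩) (BT.leaf ⟨[(nat_lit 3), (nat_lit 11), (nat_lit 8), (nat_lit 7), (nat_lit 6), (nat_lit 5), (nat_lit 4), (nat_lit 3), (nat_lit 11), (nat_lit 8), (nat_lit 7), (nat_lit 6), (nat_lit 5), (nat_lit 4), (nat_lit 3), (nat_lit 11), (nat_lit 8), (nat_lit 7), (nat_lit 6), (nat_lit 5), (nat_lit 4), (nat_lit 3), (nat_lit 11), (nat_lit 8), (nat_lit 7), (nat_lit 6), (nat_lit 5), (nat_lit 4), (nat_lit 3), (nat_lit 11), (nat_lit 8), (nat_lit 7), (nat_lit 6), (nat_lit 5), (nat_lit 4), (nat_lit 3), (nat_lit 1), (nat_lit 11), (nat_lit 8), (nat_lit 7), (nat_lit 6), (nat_lit 5), (nat_lit 4), (nat_lit 3),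 (nat_lit 11), (nat_lit 8), (nat_lit 7), (nat_lit 6), (nat_lit 5), (nat_lit 4), (nat_lit 3), (nat_lit 11), (nat_lit 8), (nat_lit 7), (nat_lit 6), (nat_lit 5), (nat_lit 4), (nat_lit 3), (nat_lit 11), (nat_lit 8), (nat_lit 7), (nat_lit 6), (nat_lit 5), (nat_lit 4)], (nat_lit 79), (nat_lit 28), (nat_lit 0), (nat_lit 3)⟩)) (BT.node (nat_lit 156) (BT.leaf ⟨[(nat_lit 7), (nat_lit 8), (nat_lit 6), (nat_lit 11), (nat_lit 12), (nat_lit 6), (nat_lit 5), (nat_lit 4), (nat_lit 6), (nat_lit 7), (nat_lit 8), (nat_lit 6), (nat_lit 11), (nat_lit 12), (nat_lit 6), (nat_lit 5), (nat_lit 4), (nat_lit 6), (nat_lit 7), (nat_lit 8), (nat_lit 6), (nat_lit 11), (nat_lit 12), (nat_lit 6), (nat_lit 5), (nat_lit 4), (nat_lit 6), (nat_lit 7), (nat_lit 8), (nat_lit 6), (nat_lit 11), (nat_lit 12), (nat_lit 6), (nat_lit 5), (nat_lit 4), (nat_lit 6), (nat_lit 7), (nat_lit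 8), (nat_lit 6), (nat_lit 11), (nat_lit 12), (nat_lit 6), (nat_lit 5), (nat_lit 4), (nat_lit 6), (nat_lit 7), (nat_lit 8), (nat_lit 6), (nat_lit 11), (nat_lit 12), (nat_lit 6), (nat_lit 5), (nat_lit 4), (nat_lit 6), (nat_lit 7), (nat_lit 8), (nat_lit 6), (nat_lit 11), (nat_lit 12), (nat_lit 6), (nat_lit 5), (nat_lit 4), (nat_lit 6), (nat_lit 7), (nat_lit 8), (nat_lit 6), (nat_lit 11), (nat_lit 12), (nat_lit 6), (nat_lit 5), (nat_lit 4), (nat_lit 6), (nat_lit 7), (nat_lit 8), (nat_lit 6), (nat_lit 11), (nat_lit 12), (nat_lit 6), (nat_lit 5), (nat_lit 4), (nat_lit 6), (nat_lit 7), (nat_lit 8), (nat_lit 6), (nat_lit 11), (nat_lit 12), (nat_lit 6), (nat_lit 5), (nat_lit 4), (nat_lit 6)], (nat_lit 0), (nat_lit 4), (nat_lit 0), (nat_lit 3)⟩) (BT.node (nat_lit 157) (BT.leaf ⟨[(nat_lit 3), (nat_lit 11), (nat_lit 8), (nat_lit 7), (nat_lit 6),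 (nat_lit 5), (nat_lit 4), (nat_lit 3), (nat_lit 11), (nat_lit 8), (nat_lit 7), (nat_lit 6), (nat_lit 5), (nat_lit 4), (nat_lit 3), (nat_lit 11), (nat_lit 8), (nat_lit 7), (nat_lit 6), (nat_lit 5), (nat_lit 4), (nat_lit 3), (nat_lit 11), (nat_lit 8), (nat_lit 7), (nat_lit 6), (nat_lit 5), (nat_lit 4), (nat_lit 3), (nat_lit 11), (nat_lit 8), (nat_lit 7), (nat_lit 6), (nat_lit 5), (nat_lit 4), (nat_lit 3), (nat_lit 11), (nat_lit 8), (nat_lit 7), (nat_lit 6), (nat_lit 5), (nat_lit 4), (nat_lit 3), (nat_lit 11), (nat_lit 8), (nat_lit 7), (nat_lit 6), (nat_lit 5), (nat_lit 4), (nat_lit 3), (nat_lit 1), (nat_lit 11), (nat_lit 8), (nat_lit 7), (nat_lit 6), (nat_lit 5), (nat_lit 4), (nat_lit 3), (nat_lit 11), (nat_lit 8), (nat_lit 7), (nat_lit 6), (nat_lit 5), (nat_lit 4)], (nat_lit 79), (nat_lit 14), (nat_lit 0), (nat_lit 3)⟩) (BT.leaf ⟨[(nat_lit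 11), (nat_lit 12), (nat_lit 6), (nat_lit 5), (nat_lit 4), (nat_lit 3), (nat_lit 2), (nat_lit 1), (nat_lit 6), (nat_lit 7), (nat_lit 8), (nat_lit 9), (nat_lit 10), (nat_lit 6), (nat_lit 11), (nat_lit 12), (nat_lit 6), (nat_lit 5), (nat_lit 4), (nat_lit 3), (nat_lit 2), (nat_lit 1), (nat_lit 6), (nat_lit 7), (nat_lit 8), (nat_lit 9), (nat_lit 10), (nat_lit 6), (nat_lit 11), (nat_lit 12), (nat_lit 6), (nat_lit 5), (nat_lit 4), (nat_lit 3), (nat_lit 2), (nat_lit 1), (nat_lit 6), (nat_lit 7), (nat_lit 8), (nat_lit 9), (nat_lit 10), (nat_lit 6), (nat_lit 11), (nat_lit 12), (nat_lit 6), (nat_lit 5), (nat_lit 4), (nat_lit 3), (nat_lit 2), (nat_lit 1), (nat_lit 6), (nat_lit 7), (nat_lit 8), (nat_lit 9), (nat_lit 10), (nat_lit 6), (nat_lit 11), (nat_lit 12), (nat_lit 6), (nat_lit 5), (nat_lit 4), (nat_lit 3), (nat_lit 2), (nat_lit 1), (nat_lit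 6), (nat_lit 7), (nat_lit 8), (nat_lit 9), (nat_lit 10), (nat_lit 6), (nat_lit 11), (nat_lit 12), (nat_lit 6), (nat_lit 5), (nat_lit 4), (nat_lit 3), (nat_lit 2), (nat_lit 1), (nat_lit 6), (nat_lit 7), (nat_lit 8), (nat_lit 9), (nat_lit 10), (nat_lit 6), (nat_lit 11), (nat_lit 12), (nat_lit 6), (nat_lit 5), (nat_lit 4), (nat_lit 3), (nat_lit 2), (nat_lit 1), (nat_lit 6), (nat_lit 7), (nat_lit 8), (nat_lit 9), (nat_lit 10), (nat_lit 6), (nat_lit 11), (nat_lit 12), (nat_lit 6), (nat_lit 5), (nat_lit 4), (nat_lit 3), (nat_lit 2), (nat_lit 1), (nat_lit 6), (nat_lit 7), (nat_lit 8), (nat_lit 9), (nat_lit 10), (nat_lit 6), (nat_lit 11), (nat_lit 12), (nat_lit 6), (nat_lit 5), (nat_lit 4), (nat_lit 3), (nat_lit 2), (nat_lit 1), (nat_lit 6), (nat_lit 7), (nat_lit 8), (nat_lit 9), (nat_lit 10), (nat_lit 6), (nat_lit 11), (nat_lit 12), (nat_lit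 6), (nat_lit 5), (nat_lit 4), (nat_lit 3), (nat_lit 2), (nat_lit 1), (nat_lit 6), (nat_lit 7), (nat_lit 8), (nat_lit 9), (nat_lit 10), (nat_lit 6), (nat_lit 11), (nat_lit 12), (nat_lit 6), (nat_lit 5), (nat_lit 4), (nat_lit 3), (nat_lit 2), (nat_lit 1), (nat_lit 6), (nat_lit 7), (nat_lit 8), (nat_lit 9), (nat_lit 10), (nat_lit 6), (nat_lit 11), (nat_lit 12), (nat_lit 6), (nat_lit 5), (nat_lit 4), (nat_lit 3), (nat_lit 2), (nat_lit 1), (nat_lit 6), (nat_lit 7), (nat_lit 8), (nat_lit 9), (nat_lit 10), (nat_lit 6), (nat_lit 11), (nat_lit 12), (nat_lit 6), (nat_lit 5), (nat_lit 4), (nat_lit 3), (nat_lit 2), (nat_lit 1), (nat_lit 6), (nat_lit 7), (nat_lit 8), (nat_lit 9), (nat_lit 10), (nat_lit 6), (nat_lit 11), (nat_lit 12), (nat_lit 6), (nat_lit 5), (nat_lit 4), (nat_lit 3), (nat_lit 2), (nat_lit 1), (nat_lit 6), (nat_lit 7), (nat_lit 8),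 (nat_lit 9), (nat_lit 10), (nat_lit 6), (nat_lit 11), (nat_lit 12), (nat_lit 6), (nat_lit 5), (nat_lit 4), (nat_lit 3), (nat_lit 2), (nat_lit 1), (nat_lit 6), (nat_lit 7), (nat_lit 8), (nat_lit 9), (nat_lit 10), (nat_lit 6), (nat_lit 11), (nat_lit 12), (nat_lit 6), (nat_lit 5), (nat_lit 4), (nat_lit 3), (nat_lit 2), (nat_lit 1), (nat_lit 6), (nat_lit 7), (nat_lit 8), (nat_lit 9), (nat_lit 10), (nat_lit 6), (nat_lit 11), (nat_lit 12), (nat_lit 6), (nat_lit 5), (nat_lit 4), (nat_lit 3), (nat_lit 2), (nat_lit 1), (nat_lit 6), (nat_lit 7), (nat_lit 8), (nat_lit 9), (nat_lit 10), (nat_lit 6)], (nat_lit 80), (nat_lit 12), (nat_lit 0), (nat_lit 3)⟩)))))))))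
noncomputable def e1_hcs : List CW := [⟨[(nat_lit 1)], (nat_lit 0), (nat_lit 0), (nat_lit 0), (nat_lit 0)⟩, ⟨[(nat_lit 3)], (nat_lit 1), (nat_lit 0), (nat_lit 0), (nat_lit 0)⟩, ⟨[(nat_lit 4)], (nat_lit 2), (nat_lit 0), (nat_lit 0), (nat_lit 0)⟩, ⟨[(nat_lit 5)], (nat_lit 3), (nat_lit 0), (nat_lit 0), (nat_lit 0)⟩, ⟨[(nat_lit 6)], (nat_lit 4), (nat_lit 0), (nat_lit 0), (nat_lit 0)⟩, ⟨[(nat_lit 7)], (nat_lit 5), (nat_lit 0), (nat_lit 0), (nat_lit 0)⟩, ⟨[(nat_lit 8)], (nat_lit 6), (nat_lit 0), (nat_lit 0), (nat_lit 0)⟩, ⟨[(nat_lit 9)], (nat_lit 7), (nat_lit 0), (nat_lit 0), (nat_lit 0)⟩, ⟨[(nat_lit 10)], (nat_lit 8), (nat_lit 0), (nat_lit 0), (nat_lit 0)⟩, ⟨[(nat_lit 11)], (nat_lit 9), (nat_lit 0), (nat_lit 0), (nat_lit 0)⟩, ⟨[(nat_lit 12)], (nat_lit 10), (nat_lit 0), (nat_lit 0), (nat_lit 0)⟩, ⟨[(nat_lit 1)], (nat_lit 11), (nat_lit 0), (nat_lit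 0), (nat_lit 0)⟩, ⟨[(nat_lit 3)], (nat_lit 12), (nat_lit 0), (nat_lit 0), (nat_lit 0)⟩, ⟨[(nat_lit 4)], (nat_lit 13), (nat_lit 0), (nat_lit 0), (nat_lit 0)⟩, ⟨[(nat_lit 5)], (nat_lit 14), (nat_lit 0), (nat_lit 0), (nat_lit 0)⟩, ⟨[(nat_lit 6)], (nat_lit 15), (nat_lit 0), (nat_lit 0), (nat_lit 0)⟩, ⟨[(nat_lit 7)], (nat_lit 16), (nat_lit 0), (nat_lit 0), (nat_lit 0)⟩, ⟨[(nat_lit 8)], (nat_lit 17), (nat_lit 0), (nat_lit 0), (nat_lit 0)⟩, ⟨[(nat_lit 9)], (nat_lit 18), (nat_lit 0), (nat_lit 0), (nat_lit 0)⟩, ⟨[(nat_lit 10)], (nat_lit 19), (nat_lit 0), (nat_lit 0), (nat_lit 0)⟩, ⟨[(nat_lit 11)], (nat_lit 20), (nat_lit 0), (nat_lit 0), (nat_lit 0)⟩, ⟨[(nat_lit 12)], (nat_lit 21), (nat_lit 0), (nat_lit 0), (nat_lit 0)⟩]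
noncomputable def e1_H (x j : Nat) : Bx (Nat → Nat → Nat) := mkH e1_L e1_pb.1 e1_e.get (lmap CW.w e1_hcs) (nat_lit 306936) (nat_lit 306937) (nat_lit 13) (nat_lit 524288) (nat_lit 134217728) (nat_lit 33554431) x (e1_rots.get j)
noncomputable def e1_F (x b : Nat) : Bool := blkOK e1_H e1_ch (nat_lit 306937) (nat_lit 524288) (nat_lit 256) (nat_lit 8) (nat_lit 255) (nat_lit 35) (nat_lit 0x7ffffffff) x b

end CF.Comp.Fi24
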