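import Cfsg.Agent.Comp.Big2
import Cfsg.Agent.Comp.Fi24.Rels
import Cfsg.Agent.Comp.Fi24.Nets
import Cfsg.Agent.Comp.Fi23.Nets

set_option autoImplicit false
set_option maxRecDepth 1000000
set_option maxHeartbeats 0
set_option Elab.async false

namespace CF.Comp.Fi24

theorem rokA_0_0 : allFrom (relP N0 306938 RA 0) 0 19 = true := by decide +kernel
theorem rokA_1_0 : allFrom (relP N0 306938 RA 1) 0 19 = true := by decide +kernel
theorem rokA_2_0 : allFrom (relP N0 306938 RA 2) 0 19 = true := by decide +kernel
theorem rokA_3_0 : allFrom (relP N0 306938 RA 3) 0 19 = true := by decide +kernel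
theorem rokA_4_0 : allFrom (relP N0 306938 RA 4) 0 19 = true := by decide +kernel
theorem rokA_5_0 : allFrom (relP N0 306938 RA 5) 0 19 = true := by decide +kernel
theorem rokA_6_0 : allFrom (relP N0 306938 RA 6) 0 19 = true := by decide +kernel
theorem rokA_7_0 : allFrom (relP N0 306938 RA 7) 0 19 = true := by decide +kernel
theorem rokA_8_0 : allFrom (relP N0 306938 RA 8) 0 19 = true := by decide +kernel
theorem rokA_9_0 : allFrom (relP N0 306938 RA 9) 0 19 = true := by decide +kernel
theorem rokA_10_0 : allFrom (relP N0 306938 RA 10) 0 19 = true := by decide +kernel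
theorem rokA_11_0 : allFrom (relP N0 306938 RA 11) 0 19 = true := by decide +kernel
theorem rokA_12_0 : allFrom (relP N0 306938 RA 12) 0 9 = true := by decide +kernel
theorem rokA_12_9 : allFrom (relP N0 306938 RA 12) 9 9 = true := by decide +kernel
theorem rokA_12_18 : allFrom (relP N0 306938 RA 12) 18 1 = true := by decide +kernel
theorem rokA_13_0 : allFrom (relP N0 306938 RA 13) 0 14 = true := by decide +kernel
theorem rokA_13_14 : allFrom (relP N0 306938 RA 13) 14 5 = true := by decide +kernel
theorem rokA_14_0 : allFrom (relP N0 306938 RA 14) 0 14 = true := by decide +kernel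
theorem rokA_14_14 : allFrom (relP N0 306938 RA 14) 14 5 = true := by decide +kernel
theorem rokA_15_0 : allFrom (relP N0 306938 RA 15) 0 14 = true := by decide +kernel
theorem rokA_15_14 : allFrom (relP N0 306938 RA 15) 14 5 = true := by decide +kernel
theorem rokA_16_0 : allFrom (relP N0 306938 RA 16) 0 14 = true := by decide +kernel
theorem rokA_16_14 : allFrom (relP N0 306938 RA 16) 14 5 = true := by decide +kernel
theorem rokA_17_0 : allFrom (relP N0 306938 RA 17) 0 14 = true := by decide +kernel
theorem rokA_17_14 : allFrom (relP N0 306938 RA 17) 14 5 = true := by decide +kernel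
theorem rokA_18_0 : allFrom (relP N0 306938 RA 18) 0 14 = true := by decide +kernel
theorem rokA_18_14 : allFrom (relP N0 306938 RA 18) 14 5 = true := by decide +kernel
theorem rokA_19_0 : allFrom (relP N0 306938 RA 19) 0 14 = true := by decide +kernel
theorem rokA_19_14 : allFrom (relP N0 306938 RA 19) 14 5 = true := by decide +kernel
theorem rokA_20_0 : allFrom (relP N0 306938 RA 20) 0 14 = true := by decide +kernel
theorem rokA_20_14 : allFrom (relP N0 306938 RA 20) 14 5 = true := by decide +kernel
theorem rokA_21_0 : allFrom (relP N0 306938 RA 21) 0 14 = true := by decide +kernel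
theorem rokA_21_14 : allFrom (relP N0 306938 RA 21) 14 5 = true := by decide +kernel
theorem rokA_22_0 : allFrom (relP N0 306938 RA 22) 0 14 = true := by decide +kernel
theorem rokA_22_14 : allFrom (relP N0 306938 RA 22) 14 5 = true := by decide +kernel
theorem rokA_23_0 : allFrom (relP N0 306938 RA 23) 0 9 = true := by decide +kernel
theorem rokA_23_9 : allFrom (relP N0 306938 RA 23) 9 9 = true := by decide +kernel
theorem rokA_23_18 : allFrom (relP N0 306938 RA 23) 18 1 = true := by decide +kernel
theorem rokA_24_0 : allFrom (relP N0 306938 RA 24) 0 14 = true := by decide +kernel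
theorem rokA_24_14 : allFrom (relP N0 306938 RA 24) 14 5 = true := by decide +kernel
theorem rokA_25_0 : allFrom (relP N0 306938 RA 25) 0 14 = true := by decide +kernel
theorem rokA_25_14 : allFrom (relP N0 306938 RA 25) 14 5 = true := by decide +kernel
theorem rokA_26_0 : allFrom (relP N0 306938 RA 26) 0 14 = true := by decide +kernel
theorem rokA_26_14 : allFrom (relP N0 306938 RA 26) 14 5 = true := by decide +kernel
theorem rokA_27_0 : allFrom (relP N0 306938 RA 27) 0 14 = true := by decide +kernel
theorem rokA_27_14 : allFrom (relP N0 306938 RA 27) 14 5 = true := by decide +kernel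

end CF.Comp.Fi24
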